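import Cfsg.Agent.Lib.Block.Recept

/-! # Saturated fusion systems with `p`-group automizers are inner -/

set_option autoImplicit false
set_option linter.unusedSectionVars false
set_option linter.unusedVariables false

namespace CfsgLib.Block

open Cfsg CfsgLib.Char
open scoped ComplexConjugate Pointwise

universe u

section Inner

variable {G : Type u} [Group G] [Finite G] {p : ℕ} [hp : Fact p.Prime]

theorem exists_normalizing_elt {P R : Subgroup G} (hPp : IsPGroup p P) (hRP : R ≤ P) (hne : R ≠ P) :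
    ∃ g ∈ P, g ∈ Subgroup.normalizer (R : Set G) ∧ g ∉ R := by
  classical
  haveI : Group.IsNilpotent P := hPp.isNilpotent
  have hlt : R.subgroupOf P < ⊤ := by
    refine lt_top_iff_ne_top.2 fun h => hne (le_antisymm hRP ?_)
    intro x hx
    have : (⟨x, hx⟩ : P) ∈ R.subgroupOf P := by
      rw [h]
      exact Subgroup.mem_top _
    exact this
  have h1 := normalizerCondition_of_isNilpotent (R.subgroupOf P) hlt
  obtain ⟨x, hx, hxn⟩ := SetLike.exists_of_lt h1
  refine ⟨x, x.2, ?_, hxn⟩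
  rw [Subgroup.mem_normalizer_iff]
  intro y
  have hxN := Subgroup.mem_normalizer_iff.1 hx
  constructor
  · intro hy
    exact (hxN ⟨y, hRP hy⟩).1 hy
  · intro hy
    have hyP : y ∈ P := by
      have h2 : x.1⁻¹ * (x.1 * y * x.1⁻¹) * x.1 = y := by group
      rw [← h2]
      exact P.mul_mem (P.mul_mem (P.inv_mem x.2) (hRP hy)) x.2
    exact (hxN ⟨y, hyP⟩).2 hy

variable {P : Subgroup G} (F : FusionSystem P)

/-- In a fully automized subgroup, the automizer is inner when it is a `p`-group. -/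
theorem aut_inner_of_fa {Q : Subgroup G} (hFA : F.IsFullyAutomized p Q) (hA : IsPGroup p (F.autGroup Q))
    {β : MulAut Q} (hβ : β ∈ F.autGroup Q) : ∃ h ∈ P, ∀ x : Q, ((β x : Q) : G) = h * (x : G) * h⁻¹ := by
  obtain ⟨-, R, hR⟩ := hFA
  have h1 : ⊤ = (R : Subgroup (F.autGroup Q)) := R.3 (hA.to_subgroup ⊤) le_top
  have h2 : (⟨β, hβ⟩ : F.autGroup Q) ∈ (autInducedBy P Q).subgroupOf (F.autGroup Q) := by
    rw [← hR, ← h1]
    exact Subgroup.mem_top _
  exact CfsgLib.Fusion.mem_autInducedBy.1 h2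

/-- The core step: a map onto a fully automized receptive subgroup is inner. -/
theorem star_inner {R : Subgroup G} (hPp : IsPGroup p P) {σ : R →* G} (hσ : σ ∈ F.Hom R)
    (hFA : F.IsFullyAutomized p σ.range) (hRec : F.IsReceptive σ.range)
    (hA : IsPGroup p (F.autGroup σ.range))
    (ih : ∀ Y : Subgroup G, Nat.card R < Nat.card Y → ∀ φ : Y →* G, φ ∈ F.Hom Y → ∃ u ∈ P, ∀ x : Y, φ x = u * (x : G) * u⁻¹) :
    ∃ u ∈ P, ∀ x : R, σ x = u * (x : G) * u⁻¹ := by
  classical
  have hRP : R ≤ P := (F.le_of_mem hσ).1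
  have hinj := F.injective_of_mem hσ
  have hrP : σ.range ≤ P := hFA.1
  by_cases hRe : R = P
  · -- the top case
    subst hRe
    have hcard : Nat.card σ.range = Nat.card R := by
      rw [Nat.card_congr (MonoidHom.ofInjective hinj).toEquiv.symm]
    have hreq : σ.range = R := Subgroup.eq_of_le_of_card_ge hrP (by rw [hcard])
    let ψ₀ : R ≃* σ.range := MonoidHom.ofInjective hinj
    let γ : MulAut σ.range := (MulEquiv.subgroupCongr hreq).trans ψ₀
    have hγ : γ ∈ F.autGroup σ.range := by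
      rw [CfsgLib.Fusion.mem_autGroup_iff F hrP]
      have h1 := F.comp_mem (F.conj_mem hrP (one_mem R)) hσ (fun x => by
        show (1 : G) * (x : G) * 1⁻¹ ∈ R
        have hx : (x : G) ∈ R := hrP x.2
        simpa using hx)
      convert h1 using 1
      ext x
      show σ _ = σ _
      congr 1
      apply Subtype.ext
      show (x : G) = (1 : G) * (x : G) * 1⁻¹
      simp
    obtain ⟨h, hh, hhx⟩ := aut_inner_of_fa F hFA hA hγ
    refine ⟨h, hh, fun x => ?_⟩
    have hx' : (x : G) ∈ σ.range := (le_of_eq hreq.symm) x.2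
    exact hhx ⟨x, hx'⟩
  · -- the extension step
    have hgen : ∀ g ∈ P, g ∈ Subgroup.normalizer (R : Set G) → g ∈ FusionSystem.extender P R σ := by
      intro g hgP hgN
      refine Subgroup.subset_closure ⟨hgP, hgN, ?_⟩
      obtain ⟨ι, hι, hιx⟩ := F.inv_mem hσ
      let ψ₀ : R ≃* σ.range := MonoidHom.ofInjective hinj
      let β : MulAut σ.range := ψ₀.symm.trans ((R.normalizerMonoidHom ⟨g, hgN⟩).trans ψ₀)
      have hβx : ∀ y : R, ((β ⟨σ y, ⟨y, rfl⟩⟩ : σ.range) : G) = σ ((R.normalizerMonoidHom ⟨g, hgN⟩) y) := by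
        intro y
        have h0 : (⟨σ y, ⟨y, rfl⟩⟩ : σ.range) = ψ₀ y := rfl
        rw [h0]
        show ((ψ₀ ((R.normalizerMonoidHom ⟨g, hgN⟩) (ψ₀.symm (ψ₀ y))) : σ.range) : G) = _
        rw [MulEquiv.symm_apply_apply]
        rfl
      have hιR : ∀ x : σ.range, ι x ∈ R := by
        rintro ⟨_, y, rfl⟩
        rw [hιx y]
        exact y.2
      have h1 := F.comp_mem hι (F.conj_mem hRP hgP) hιR
      have h2 := F.comp_mem h1 hσ (fun x => by
        show g * _ * g⁻¹ ∈ R
        exact (Subgroup.mem_normalizer_iff.1 hgN _).1 (hιR x))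
      have hβ : β ∈ F.autGroup σ.range := by
        rw [CfsgLib.Fusion.mem_autGroup_iff F hrP]
        convert h2 using 1
        ext ⟨_, y, rfl⟩
        show ((β ⟨σ y, ⟨y, rfl⟩⟩ : σ.range) : G) = σ _
        rw [hβx]
        congr 1
        apply Subtype.ext
        show g * (y : G) * g⁻¹ = g * (ι ⟨σ y, ⟨y, rfl⟩⟩) * g⁻¹
        rw [hιx y]
      obtain ⟨h, hh, hhx⟩ := aut_inner_of_fa F hFA hA hβ
      refine ⟨h, hh, fun x hx => ?_⟩
      have h3 := hhx ⟨σ x, ⟨x, rfl⟩⟩
      rw [hβx] at h3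
      exact h3
    obtain ⟨ψ', hψ', hagree⟩ := hRec.2 R σ hσ rfl
    have hRE : R ≤ FusionSystem.extender P R σ := fun x hx => hgen x (hRP hx) (Subgroup.le_normalizer hx)
    have hlt : Nat.card R < Nat.card (FusionSystem.extender P R σ) := by
      obtain ⟨g, hgP, hgN, hgR⟩ := exists_normalizing_elt hPp hRP hRe
      by_contra hnot
      have h4 := Subgroup.eq_of_le_of_card_ge hRE (not_lt.1 hnot)
      exact hgR (by
        rw [h4]
        exact hgen g hgP hgN)
    obtain ⟨u, hu, hux⟩ := ih _ hlt ψ' hψ'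
    refine ⟨u, hu, fun x => ?_⟩
    have h5 := hagree x x.2 (hRE x.2)
    have h6 := hux ⟨x, hRE x.2⟩
    rw [← show ψ' ⟨x, hRE x.2⟩ = σ ⟨x, x.2⟩ from h5]
    exact h6

/-- **A saturated fusion system all of whose automizers are `p`-groups is the inner one.** -/
theorem inner_of_saturated (hPp : IsPGroup p P) (hsat : F.IsSaturated p)
    (hA : ∀ Q : Subgroup G, Q ≤ P → IsPGroup p (F.autGroup Q)) (R : Subgroup G) :
    ∀ φ : R →* G, φ ∈ F.Hom R → ∃ u ∈ P, ∀ x : R, φ x = u * (x : G) * u⁻¹ := by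
  classical
  induction' hk : Nat.card P - Nat.card R using Nat.strong_induction_on with k IH generalizing R
  intro φ hφ
  have hRP : R ≤ P := (F.le_of_mem hφ).1
  have ih : ∀ Y : Subgroup G, Nat.card R < Nat.card Y → ∀ φ : Y →* G, φ ∈ F.Hom Y → ∃ u ∈ P, ∀ x : Y, φ x = u * (x : G) * u⁻¹ := by
    intro Y hY ψ hψ
    have hYP : Y ≤ P := (F.le_of_mem hψ).1
    have h1 : Nat.card Y ≤ Nat.card P := Subgroup.card_le_of_le hYP
    exact IH (Nat.card P - Nat.card Y) (by omega) Y rfl ψ hψ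
  obtain ⟨Q', ⟨ρ, hρ, hρr⟩, hFA, hRec⟩ := hsat R hRP
  subst hρr
  have hrP : ρ.range ≤ P := hFA.1
  obtain ⟨u, hu, hux⟩ := star_inner F hPp hρ hFA hRec (hA _ hrP) ih
  obtain ⟨ι, hι, hιx⟩ := F.inv_mem hφ
  have hinj := F.injective_of_mem hφ
  have hcard : Nat.card φ.range = Nat.card R := by
    rw [Nat.card_congr (MonoidHom.ofInjective hinj).toEquiv.symm]
  have hιR : ∀ x : φ.range, ι x ∈ R := by
    rintro ⟨_, y, rfl⟩
    rw [hιx y]
    exact y.2
  have h1 := F.comp_mem hι hρ hιR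
  have hrange : (ρ.comp (ι.codRestrict R hιR)).range = ρ.range := by
    apply le_antisymm
    · rintro _ ⟨x, rfl⟩
      exact ⟨_, rfl⟩
    · rintro _ ⟨y, rfl⟩
      refine ⟨⟨φ y, ⟨y, rfl⟩⟩, ?_⟩
      show ρ (ι.codRestrict R hιR _) = _
      congr 1
      apply Subtype.ext
      exact hιx y
  have hFA' : F.IsFullyAutomized p (ρ.comp (ι.codRestrict R hιR)).range := by
    rw [hrange]
    exact hFA
  have hRec' : F.IsReceptive (ρ.comp (ι.codRestrict R hιR)).range := by
    rw [hrange]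
    exact hRec
  have hA' : IsPGroup p (F.autGroup (ρ.comp (ι.codRestrict R hιR)).range) := by
    rw [hrange]
    exact hA _ hrP
  obtain ⟨v, hv, hvx⟩ := star_inner F hPp h1 hFA' hRec' hA' (fun Y hY => ih Y (by rwa [hcard] at hY))
  refine ⟨v⁻¹ * u, P.mul_mem (P.inv_mem hv) hu, fun x => ?_⟩
  have h2 := hvx ⟨φ x, ⟨x, rfl⟩⟩
  have h3 : (ρ.comp (ι.codRestrict R hιR)) ⟨φ x, ⟨x, rfl⟩⟩ = ρ x := by
    show ρ (ι.codRestrict R hιR _) = _
    congr 1
    apply Subtype.ext
    exact hιx x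
  rw [h3, hux] at h2
  have h4 : φ x = v⁻¹ * (v * φ x * v⁻¹) * v := by group
  rw [h4, ← h2]
  group

end Inner

end CfsgLib.Block
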