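import Cfsg.Agent.Lib.Block.DefNorm
import Cfsg.Agent.Lib.Block.Fam

/-! # The inertial index of a block with abelian defect group -/

set_option autoImplicit false
set_option linter.unusedSectionVars false
set_option linter.unusedVariables false

namespace CfsgLib.Block

open Cfsg CfsgLib.Char
open scoped ComplexConjugate Pointwise

universe u

section

variable {G : Type u} [Group G] [Fintype G] {p : ℕ} [hp : Fact p.Prime] {M : Ideal AlgInt} (hM : IsPModular p M)

attribute [local instance] centFintype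

omit hM in
theorem stabilizes_iff_forall {X : Subgroup G} [Fintype X] {f : Set (IrrCharacter X)} {x : G}
    (hx : x ∈ Subgroup.normalizer (X : Set G)) :
    StabilizesBlock X f x ↔ ∀ θ ∈ f, ∀ θ' : IrrCharacter X,
      (∀ h h' : X, (h' : G) = x * h * x⁻¹ → (θ' : X → ℂ) h' = (θ : X → ℂ) h) → θ' ∈ f := by
  classical
  constructor
  · rintro ⟨_, hs⟩ θ hθ θ' hc
    obtain ⟨χ', hχ', hcc⟩ := hs θ hθ
    have : θ' = χ' := by
      apply Subtype.ext
      funext k'
      have hk : (nAut X ⟨x, hx⟩).symm k' = (nAut X ⟨x, hx⟩).symm k' := rfl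
      have h5 : (k' : G) = x * (((nAut X ⟨x, hx⟩).symm k' : X) : G) * x⁻¹ := by
        have h6 := coe_nAut X ⟨x, hx⟩ ((nAut X ⟨x, hx⟩).symm k')
        rw [MulEquiv.apply_symm_apply] at h6
        exact h6
      rw [hc _ k' h5, hcc _ k' h5]
    rw [this]
    exact hχ'
  · intro h
    rw [stabilizes_iff_smul X hx]
    have hsub : (⟨x, hx⟩ : Subgroup.normalizer (X : Set G)) • f ⊆ f := by
      rintro _ ⟨χ, hχ, rfl⟩
      refine h χ hχ _ (fun k k' hk => ?_)
      show (((⟨x, hx⟩ : Subgroup.normalizer (X : Set G)) • χ : IrrCharacter X) : X → ℂ) k' = _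
      rw [smul_irr_apply]
      have h5 : (nAut X ⟨x, hx⟩).symm k' = k := Subtype.ext (by
        rw [coe_nAut_symm, hk]
        show x⁻¹ * (x * (k : G) * x⁻¹) * x = k
        group)
      rw [h5]
    refine Set.eq_of_subset_of_ncard_le hsub ?_ (Set.toFinite f)
    rw [← Set.image_smul, Set.ncard_image_of_injective _ (MulAction.injective _)]

include hM

/-- The block of `C_G(P)` inducing `B` has defect group `P`, and the inertial index is prime to `p`. -/
theorem inert_index {B : Set (IrrCharacter G)} (hB : IsPBlock M B) {P : Subgroup G} (hPD : IsDefectGroup p M B P)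
    (hab : ∀ x ∈ P, ∀ y ∈ P, x * y = y * x) {c : Set (IrrCharacter (Subgroup.centralizer (P : Set G)))}
    (hc : IsInducedBlock M (Subgroup.centralizer (P : Set G)) c B) {T : Subgroup G}
    (hT : ∀ g : G, g ∈ T ↔ (g ∈ Subgroup.normalizer (P : Set G) ∧ StabilizesBlock (Subgroup.centralizer (P : Set G)) c g)) :
    IsDefectGroup p M c (P.subgroupOf (Subgroup.centralizer (P : Set G))) ∧
      ¬ p ∣ (Subgroup.centralizer (P : Set G)).relIndex T := by
  classical
  have hPp : IsPGroup p P := by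
    obtain ⟨g, hg, Q, rfl⟩ := hPD
    exact (Q.isPGroup').map _
  have hPC : P ≤ Subgroup.centralizer (P : Set G) := by
    intro x hx
    rw [Subgroup.mem_centralizer_iff]
    intro y hy
    exact hab y hy x hx
  have hCN : Subgroup.centralizer (P : Set G) ≤ Subgroup.normalizer (P : Set G) := Subgroup.centralizer_le_normalizer _
  obtain ⟨D, hD⟩ := exists_defectGroup hM hc.1
  have hDeq := isDefect_of_induced_of_le hM hPp hPC hCN hB hc hPD hD
  rw [hDeq] at hD
  refine ⟨hD, ?_⟩
  have hsup : Subgroup.centralizer (P : Set G) = P ⊔ Subgroup.centralizer (P : Set G) := (sup_eq_right.2 hPC).symm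
  have hT' : ∀ g : G, g ∈ T ↔ (g ∈ Subgroup.normalizer (P : Set G) ∧ ∀ θ ∈ c, ∀ θ' : IrrCharacter (Subgroup.centralizer (P : Set G)),
      (∀ h h' : Subgroup.centralizer (P : Set G), (h' : G) = g * h * g⁻¹ → (θ' : Subgroup.centralizer (P : Set G) → ℂ) h' = (θ : Subgroup.centralizer (P : Set G) → ℂ) h) → θ' ∈ c) := by
    intro g
    rw [hT]
    constructor
    · rintro ⟨h1, h2⟩
      exact ⟨h1, (stabilizes_iff_forall (le_normalizer_centralizer le_rfl h1)).1 h2⟩
    · rintro ⟨h1, h2⟩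
      exact ⟨h1, (stabilizes_iff_forall (le_normalizer_centralizer le_rfl h1)).2 h2⟩
  exact (s4437 hM P hPp _ hsup c hc.1 hD B hc T hT').1 hPD

end

section Cyc

variable {G : Type u} [Group G] [Finite G] {p : ℕ} [hp : Fact p.Prime]

/-- A small Bezout lemma for membership of powers. -/
theorem mem_of_pow_mem_coprime (H : Subgroup G) {g : G} {a b : ℕ} (hab : a.Coprime b) (ha : g ^ a ∈ H) (hb : g ^ b ∈ H) : g ∈ H := by
  have h1 : ((a : ℤ) * Nat.gcdA a b + (b : ℤ) * Nat.gcdB a b) = 1 := by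
    have := Nat.gcd_eq_gcd_ab a b
    rw [hab] at this
    push_cast at this
    linarith
  have h2 : g = (g ^ a) ^ (Nat.gcdA a b) * (g ^ b) ^ (Nat.gcdB a b) := by
    rw [← zpow_natCast, ← zpow_natCast, ← zpow_mul, ← zpow_mul, ← zpow_add, h1, zpow_one]
  rw [h2]
  exact H.mul_mem (H.zpow_mem ha _) (H.zpow_mem hb _)

/-- Structure of the action on a cyclic `p`-group of an inertial group of `p'`-index. -/
theorem cyclic_inertial (P : Subgroup G) (hPp : IsPGroup p P) (hP1 : P ≠ ⊥) (hcyc : IsCyclic P) (T : Subgroup G)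
    (hTN : T ≤ Subgroup.normalizer (P : Set G)) [hn : ((Subgroup.centralizer (P : Set G)).subgroupOf T).Normal]
    (hidx : ¬ p ∣ (Subgroup.centralizer (P : Set G)).relIndex T) :
    IsCyclic (T ⧸ (Subgroup.centralizer (P : Set G)).subgroupOf T) ∧ (Subgroup.centralizer (P : Set G)).relIndex T ∣ p - 1 ∧
      ∀ g ∈ T, ∀ x ∈ P, x ≠ 1 → g * x * g⁻¹ = x → g ∈ Subgroup.centralizer (P : Set G) := by
  classical
  obtain ⟨y₀, hy₀⟩ := IsCyclic.exists_generator (α := P)
  set y : G := (y₀ : G) with hydef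
  have hyP : y ∈ P := y₀.2
  have hgen : ∀ z ∈ P, ∃ n : ℕ, z = y ^ n := by
    intro z hz
    obtain ⟨n, hn⟩ := (mem_powers_iff_mem_zpowers (x := y₀) (y := ⟨z, hz⟩)).2 (hy₀ ⟨z, hz⟩)
    exact ⟨n, by simpa using (congrArg Subtype.val hn).symm⟩
  obtain ⟨a, ha⟩ := IsPGroup.iff_card.1 hPp
  have hoy : orderOf y = p ^ a := by
    rw [hydef, Subgroup.orderOf_coe, ← ha, orderOf_eq_card_of_forall_mem_zpowers hy₀]
  have ha1 : a ≠ 0 := by
    rintro rfl
    apply hP1
    apply Subgroup.eq_bot_of_card_eq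
    rw [ha, pow_zero]
  obtain ⟨b, rfl⟩ := Nat.exists_eq_succ_of_ne_zero ha1
  set x₀ := y ^ (p ^ b) with hx₀
  have hpp := hp.out
  have hox₀ : orderOf x₀ = p := by
    rw [hx₀, orderOf_pow_of_dvd (pow_ne_zero _ hpp.ne_zero) (by rw [hoy]; exact pow_dvd_pow _ (Nat.le_succ b)), hoy, pow_succ]
    exact Nat.mul_div_cancel_left _ (pow_pos hpp.pos _)
  have hx₀P : x₀ ∈ P := P.pow_mem hyP _
  have hU : ∀ w ∈ P, w ^ p = 1 → ∃ s : ℕ, w = x₀ ^ s := by
    intro w hw hwp
    obtain ⟨i, rfl⟩ := hgen w hw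
    have h1 : p ^ (b + 1) ∣ i * p := by
      rw [← hoy]
      apply orderOf_dvd_of_pow_eq_one
      rw [pow_mul]
      exact hwp
    rw [pow_succ] at h1
    have h2 : p ^ b ∣ i := Nat.dvd_of_mul_dvd_mul_right hpp.pos h1
    obtain ⟨s, rfl⟩ := h2
    exact ⟨s, by rw [hx₀, pow_mul]⟩
  have hk1 : ∀ g : G, ∀ x ∈ P, x ≠ 1 → g * x * g⁻¹ = x → g * x₀ * g⁻¹ = x₀ := by
    intro g x hx hx1 hgx
    obtain ⟨c, hc⟩ := IsPGroup.iff_orderOf.1 hPp ⟨x, hx⟩
    rw [Subgroup.orderOf_mk] at hc
    have hc0 : c ≠ 0 := by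
      rintro rfl
      apply hx1
      rw [pow_zero] at hc
      exact orderOf_eq_one_iff.1 hc
    obtain ⟨c', rfl⟩ := Nat.exists_eq_succ_of_ne_zero hc0
    set w := x ^ (p ^ c') with hw
    have hwp : w ^ p = 1 := by
      rw [hw, ← pow_mul, ← pow_succ, ← hc, pow_orderOf_eq_one]
    have hw1 : w ≠ 1 := by
      intro h
      have h2 := orderOf_dvd_of_pow_eq_one h
      rw [hc] at h2
      exact absurd (Nat.le_of_dvd (pow_pos hpp.pos _) h2) (not_le.2 (Nat.pow_lt_pow_right hpp.one_lt (Nat.lt_succ_self c')))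
    have hwP : w ∈ P := P.pow_mem hx _
    obtain ⟨s, hs⟩ := hU w hwP hwp
    have how : orderOf w = p := orderOf_eq_prime hwp hw1
    have hle : Subgroup.zpowers w ≤ Subgroup.zpowers x₀ := by
      rw [Subgroup.zpowers_le, hs]
      exact Subgroup.pow_mem _ (Subgroup.mem_zpowers x₀) s
    have heq : Subgroup.zpowers w = Subgroup.zpowers x₀ :=
      Subgroup.eq_of_le_of_card_ge hle (by rw [Nat.card_zpowers, Nat.card_zpowers, how, hox₀])
    have hm : x₀ ∈ Subgroup.zpowers w := by
      rw [heq]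
      exact Subgroup.mem_zpowers x₀
    obtain ⟨n, hn'⟩ := Subgroup.mem_zpowers_iff.1 hm
    have hcomm : Commute g x := by
      show g * x = x * g
      rw [mul_inv_eq_iff_eq_mul] at hgx
      exact hgx
    have hcw : Commute g w := hcomm.pow_right _
    have hcx : Commute g x₀ := by
      rw [← hn']
      exact hcw.zpow_right n
    rw [hcx.eq, mul_inv_cancel_right]
  have hk2 : ∀ g ∈ T, g * x₀ * g⁻¹ = x₀ → g ∈ Subgroup.centralizer (P : Set G) := by
    intro g hgT hgx
    have hgN := hTN hgT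
    have hgy : g * y * g⁻¹ ∈ P := (Subgroup.mem_normalizer_iff.1 hgN y).1 hyP
    obtain ⟨k, hk⟩ := hgen _ hgy
    have hconj : ∀ m : ℕ, g * y ^ m * g⁻¹ = y ^ (k * m) := by
      intro m
      rw [pow_mul, ← hk, conj_pow]
    have hconj2 : ∀ n : ℕ, g ^ n * y * (g ^ n)⁻¹ = y ^ (k ^ n) := by
      intro n
      induction n with
      | zero => simp
      | succ n ih =>
        calc g ^ (n + 1) * y * (g ^ (n + 1))⁻¹ = g * (g ^ n * y * (g ^ n)⁻¹) * g⁻¹ := by
              rw [pow_succ']; group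
          _ = g * y ^ (k ^ n) * g⁻¹ := by rw [ih]
          _ = y ^ (k * k ^ n) := hconj _
          _ = y ^ (k ^ (n + 1)) := by rw [pow_succ']
    have hxk : x₀ ^ k = x₀ ^ 1 := by
      calc x₀ ^ k = y ^ (k * p ^ b) := by rw [hx₀, ← pow_mul, mul_comm]
        _ = g * y ^ (p ^ b) * g⁻¹ := (hconj _).symm
        _ = x₀ := hgx
        _ = x₀ ^ 1 := (pow_one _).symm
    have hmod : k ≡ 1 [MOD p] := by
      have := (pow_eq_pow_iff_modEq).1 hxk
      rwa [hox₀] at this
    have hd : ((p : ℕ) : ℤ) ∣ (k : ℤ) - 1 := by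
      have := (Nat.modEq_iff_dvd).1 hmod.symm
      simpa using this
    have hd2 := dvd_sub_pow_of_dvd_sub hd b
    rw [one_pow] at hd2
    have hyk : y ^ (k ^ (p ^ b)) = y ^ 1 := by
      rw [pow_eq_pow_iff_modEq, hoy]
      apply Nat.ModEq.symm
      rw [Nat.modEq_iff_dvd]
      push_cast
      exact hd2
    rw [pow_one] at hyk
    have hgb : g ^ (p ^ b) ∈ Subgroup.centralizer ({y} : Set G) := by
      rw [Subgroup.mem_centralizer_singleton_iff]
      have h1 := hconj2 (p ^ b)
      rw [hyk, mul_inv_eq_iff_eq_mul] at h1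
      exact h1
    have hge : g ^ (Subgroup.centralizer (P : Set G)).relIndex T ∈ Subgroup.centralizer ({y} : Set G) := by
      have h1 := Subgroup.pow_index_mem ((Subgroup.centralizer (P : Set G)).subgroupOf T) (⟨g, hgT⟩ : T)
      have h2 : g ^ (Subgroup.centralizer (P : Set G)).relIndex T ∈ Subgroup.centralizer (P : Set G) := by
        have := Subgroup.mem_subgroupOf.1 h1
        rw [Subgroup.relIndex]
        simpa using this
      rw [Subgroup.mem_centralizer_singleton_iff]
      exact ((Subgroup.mem_centralizer_iff.1 h2) y hyP).symm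
    have hcop : ((Subgroup.centralizer (P : Set G)).relIndex T).Coprime (p ^ b) :=
      Nat.Coprime.pow_right _ ((Nat.Prime.coprime_iff_not_dvd hpp).2 hidx).symm
    have hgc := mem_of_pow_mem_coprime _ hcop hge hgb
    rw [Subgroup.mem_centralizer_singleton_iff] at hgc
    rw [Subgroup.mem_centralizer_iff]
    intro h hh
    obtain ⟨n, rfl⟩ := hgen h hh
    have : Commute g y := hgc
    exact (this.pow_right n).eq.symm
  have hex : ∀ g : T, ∃ k : ℕ, (g : G) * x₀ * (g : G)⁻¹ = x₀ ^ k := by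
    intro g
    apply hU
    · exact (Subgroup.mem_normalizer_iff.1 (hTN g.2) x₀).1 hx₀P
    · rw [conj_pow, ← hox₀, pow_orderOf_eq_one]
      group
  choose kk hkk using hex
  have hmodk : ∀ m n : ℕ, x₀ ^ m = x₀ ^ n → (m : ZMod p) = n := by
    intro m n h
    rw [ZMod.natCast_eq_natCast_iff]
    have := (pow_eq_pow_iff_modEq).1 h
    rwa [hox₀] at this
  let f : T →* ZMod p :=
    { toFun := fun g => (kk g : ZMod p)
      map_one' := by
        have h1 := hkk 1
        have h2 : x₀ ^ (kk 1) = x₀ ^ 1 := by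
          rw [← h1, pow_one]
          simp
        have := hmodk _ _ h2
        simpa using this
      map_mul' := by
        intro g h
        have h1 := hkk (g * h)
        have h2 : x₀ ^ (kk (g * h)) = x₀ ^ (kk g * kk h) := by
          calc x₀ ^ (kk (g * h)) = ((g * h : T) : G) * x₀ * ((g * h : T) : G)⁻¹ := h1.symm
            _ = (g : G) * ((h : G) * x₀ * (h : G)⁻¹) * (g : G)⁻¹ := by push_cast; group
            _ = (g : G) * x₀ ^ (kk h) * (g : G)⁻¹ := by rw [hkk h]
            _ = ((g : G) * x₀ * (g : G)⁻¹) ^ (kk h) := by rw [conj_pow]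
            _ = (x₀ ^ (kk g)) ^ (kk h) := by rw [hkk g]
            _ = x₀ ^ (kk g * kk h) := (pow_mul _ _ _).symm
        have := hmodk _ _ h2
        simpa using this }
  let φ : T →* (ZMod p)ˣ := f.toHomUnits
  have hφ : ∀ g : T, φ g = 1 ↔ g ∈ (Subgroup.centralizer (P : Set G)).subgroupOf T := by
    intro g
    rw [Subgroup.mem_subgroupOf]
    have hφ1 : φ g = 1 ↔ (kk g : ZMod p) = 1 := by
      rw [Units.ext_iff]
      simp [φ, f]
    rw [hφ1]
    constructor
    · intro h
      apply hk2 g g.2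
      rw [hkk g]
      have h3 : ((kk g : ℕ) : ZMod p) = ((1 : ℕ) : ZMod p) := by simpa using h
      rw [ZMod.natCast_eq_natCast_iff] at h3
      have h4 : x₀ ^ (kk g) = x₀ ^ 1 := by
        rw [pow_eq_pow_iff_modEq, hox₀]
        exact h3
      rw [h4, pow_one]
    · intro h
      have h1 := hkk g
      have h2 : (g : G) * x₀ = x₀ * g := ((Subgroup.mem_centralizer_iff.1 h) x₀ hx₀P).symm
      rw [h2, mul_inv_cancel_right] at h1
      have h3 : x₀ ^ (kk g) = x₀ ^ 1 := by rw [← h1, pow_one]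
      have := hmodk _ _ h3
      simpa using this
  let ψ : T ⧸ (Subgroup.centralizer (P : Set G)).subgroupOf T →* (ZMod p)ˣ :=
    QuotientGroup.lift _ φ (fun g hg => (hφ g).2 hg)
  have hψ : Function.Injective ψ := by
    rw [injective_iff_map_eq_one]
    intro q hq
    obtain ⟨g, rfl⟩ := QuotientGroup.mk_surjective q
    have h1 : φ g = 1 := hq
    exact (QuotientGroup.eq_one_iff g).2 ((hφ g).1 h1)
  refine ⟨isCyclic_of_injective ψ hψ, ?_, fun g hg x hx hx1 hgx => hk2 g hg (hk1 g x hx hx1 hgx)⟩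
  have h1 := Subgroup.card_dvd_of_injective ψ hψ
  have h2 : Nat.card (ZMod p)ˣ = p - 1 := by
    rw [Nat.card_eq_fintype_card, ZMod.card_units]
  rw [h2] at h1
  exact h1

end Cyc

end CfsgLib.Block
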