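import Cfsg.Agent.Lib.Block.FusInner

/-! # Nilpotent blocks and the inner fusion system -/

set_option autoImplicit false
set_option linter.unusedSectionVars false
set_option linter.unusedVariables false

namespace CfsgLib.Block

open Cfsg CfsgLib.Char
open scoped ComplexConjugate Pointwise

universe u

section PR

variable {G : Type u} [Group G] [Fintype G] {p : ℕ} [hp : Fact p.Prime]

theorem pReg_mem_of_mem (H : Subgroup G) {g : G} (hg : g ∈ H) : pReg p g ∈ H := by
  classical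
  obtain ⟨k, hk⟩ := orderOf_pPart (p := p) g
  have hcop : (p ^ k).Coprime (orderOf (pReg p g)) :=
    Nat.Coprime.pow_left _ ((Nat.Prime.coprime_iff_not_dvd hp.out).2 (not_dvd_orderOf_pReg g))
  obtain ⟨m, hm⟩ := exists_pow_eq_self_of_coprime hcop
  have h1 : g ^ (p ^ k) = pReg p g ^ (p ^ k) := by
    conv_lhs => rw [← pPart_mul_pReg (p := p) g]
    rw [(commute_pPart_pReg (p := p) g).mul_pow, ← hk, pow_orderOf_eq_one, one_mul]
  rw [← hm, ← h1]
  exact H.pow_mem (H.pow_mem hg _) _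

theorem pPart_mem_of_mem (H : Subgroup G) {g : G} (hg : g ∈ H) : pPart p g ∈ H := by
  have h : pPart p g = g * (pReg p g)⁻¹ := by
    simp [pReg]
  rw [h]
  exact H.mul_mem hg (H.inv_mem (pReg_mem_of_mem H hg))

omit hp in
/-- If a `p`-regular element acts like an element of `p`-power order, it acts trivially. -/
theorem mem_centralizer_of_action [hp : Fact p.Prime] {Q : Subgroup G} {x u : G} (hx : x ∈ Subgroup.normalizer (Q : Set G))
    (hu : u ∈ Subgroup.normalizer (Q : Set G)) (hxr : IsPRegular p x) {k : ℕ} (huk : orderOf u = p ^ k)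
    (h : ∀ q ∈ Q, x * q * x⁻¹ = u * q * u⁻¹) : x ∈ Subgroup.centralizer (Q : Set G) := by
  classical
  have hab : Q.normalizerMonoidHom ⟨x, hx⟩ = Q.normalizerMonoidHom ⟨u, hu⟩ := by
    ext q
    exact h q q.2
  have h1 : orderOf (Q.normalizerMonoidHom ⟨x, hx⟩) ∣ orderOf x := by
    have := orderOf_map_dvd Q.normalizerMonoidHom (⟨x, hx⟩ : Subgroup.normalizer (Q : Set G))
    rwa [Subgroup.orderOf_mk] at this
  have h2 : orderOf (Q.normalizerMonoidHom ⟨x, hx⟩) ∣ p ^ k := by
    have := orderOf_map_dvd Q.normalizerMonoidHom (⟨u, hu⟩ : Subgroup.normalizer (Q : Set G))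
    rw [Subgroup.orderOf_mk, huk, ← hab] at this
    exact this
  have hc : (orderOf x).Coprime (p ^ k) :=
    Nat.Coprime.pow_right _ ((Nat.Prime.coprime_iff_not_dvd hp.out).2 hxr).symm
  have h3 : orderOf (Q.normalizerMonoidHom ⟨x, hx⟩) = 1 := Nat.eq_one_of_dvd_coprimes hc h1 h2
  rw [orderOf_eq_one_iff] at h3
  rw [Subgroup.mem_centralizer_iff]
  intro q hq
  have h4 : ((Q.normalizerMonoidHom ⟨x, hx⟩ ⟨q, hq⟩ : Q) : G) = q := by
    rw [h3]
    rfl
  have h5 : x * q * x⁻¹ = q := h4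
  calc q * x = (x * q * x⁻¹) * x := by rw [h5]
    _ = x * q := by group

end PR

section Main

variable {G : Type u} [Group G] [Fintype G] {p : ℕ} [hp : Fact p.Prime] {M : Ideal AlgInt} (hM : IsPModular p M)

attribute [local instance] centFintype

include hM

/-- In a nilpotent block all automizers are `p`-groups. -/
theorem autGroup_isPGroup_of_nilpotent {B : Set (IrrCharacter G)} {P : Subgroup G} {e : Set (IrrCharacter (Subgroup.centralizer (P : Set G)))}
    {F : FusionSystem P} (hF : IsBlockFusionSystemOn p M B P e F) (hnil : IsNilpotentBlock p M B) (Q : Subgroup G) (hQ : Q ≤ P) :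
    IsPGroup p (F.autGroup Q) := by
  classical
  have hmax := hF.1
  have hPe := hmax.1.1
  obtain ⟨f, hf, hle⟩ := exists_subpair hM hPe Q hQ
  have hQf : IsBrauerPair p M Q f := ⟨hPe.1.to_le hQ, hf⟩
  have hBf : IsBrauerPairOf p M B Q f := (pair_iff_of_chain hM hPe hQf hle hmax.1.2.1).1 hmax.1
  rw [autGroup_eq_stabT hM hF hQ hle]
  rintro ⟨α, hα⟩
  obtain ⟨t, ht, htα⟩ := CfsgLib.Fusion.mem_autInducedBy.1 hα
  obtain ⟨k, hk⟩ := orderOf_pPart (p := p) t
  refine ⟨k, Subtype.ext ?_⟩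
  obtain ⟨htN, hts⟩ := mem_stabT.1 ht
  have hreg : pReg p t ∈ Subgroup.centralizer (Q : Set G) := by
    have h1 := pReg_mem_of_mem (stabT (⟨Q, f⟩ : BrauerPairIdx G)) (p := p) ht
    obtain ⟨h2, h3⟩ := mem_stabT.1 h1
    exact hnil.2 Q f hBf _ h2 h3 (not_dvd_orderOf_pReg t)
  have hact : ∀ x : Q, ((α x : Q) : G) = pPart p t * (x : G) * (pPart p t)⁻¹ := by
    intro x
    rw [htα x]
    have h1 := Subgroup.mem_centralizer_iff.1 hreg x x.2
    conv_lhs => rw [← pPart_mul_pReg (p := p) t]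
    have h2 : (pPart p t * pReg p t) * (x : G) * (pPart p t * pReg p t)⁻¹ = pPart p t * (pReg p t * x) * (pReg p t)⁻¹ * (pPart p t)⁻¹ := by group
    rw [h2, ← show (x : G) * pReg p t = pReg p t * x from h1]
    group
  have hpow : ∀ (n : ℕ) (x : Q), (((α ^ n) x : Q) : G) = (pPart p t) ^ n * (x : G) * ((pPart p t) ^ n)⁻¹ := by
    intro n
    induction n with
    | zero =>
      intro x
      simp
    | succ n ih =>
      intro x
      rw [pow_succ, MulAut.mul_apply, ih, hact x, pow_succ]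
      group
  ext x
  show (((α ^ (p ^ k)) x : Q) : G) = x
  rw [hpow, ← hk, pow_orderOf_eq_one]
  simp

/-- **S4686** -/
theorem s4686 {B : Set (IrrCharacter G)} {P : Subgroup G} {e : Set (IrrCharacter (Subgroup.centralizer (P : Set G)))}
    {F : FusionSystem P} (hF : IsBlockFusionSystemOn p M B P e F) :
    IsNilpotentBlock p M B ↔ ∀ Q : Subgroup G, F.Hom Q = (innerFusionSystem P).Hom Q := by
  classical
  have hmax := hF.1
  have hPe := hmax.1.1
  constructor
  · intro hnil Q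
    ext φ
    constructor
    · intro hφ
      obtain ⟨u, hu, hux⟩ := inner_of_saturated F hPe.1 (blockFus_saturated hM hmax hF)
        (autGroup_isPGroup_of_nilpotent hM hF hnil) Q φ hφ
      exact ⟨(F.le_of_mem hφ).1, u, hu, hux⟩
    · rintro ⟨hQ, g, hg, h⟩
      have h1 : φ = conjHom Q g := MonoidHom.ext h
      rw [h1]
      exact F.conj_mem hQ hg
  · intro hinner
    refine ⟨hmax.1.2.1, fun Q f hQf x hxN hxs hxr => ?_⟩
    obtain ⟨y, hy⟩ := exists_conj_below hM hmax hQf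
    -- conjugate below `(P, e)`
    have hx'N : y * x * y⁻¹ ∈ Subgroup.normalizer ((cs Q y : Subgroup G) : Set G) := by
      rw [Subgroup.mem_normalizer_iff]
      intro u
      rw [mem_cs, mem_cs]
      have h7 : y⁻¹ * (y * x * y⁻¹ * u * (y * x * y⁻¹)⁻¹) * y = x * (y⁻¹ * u * y) * x⁻¹ := by group
      rw [h7]
      exact Subgroup.mem_normalizer_iff.1 hxN _
    have hx's := stabilizes_cs hM y hxs
    have hcp : cp (y * x * y⁻¹) (cp y ⟨Q, f⟩) = cp y ⟨Q, f⟩ := cp_eq_of_stabilizes hx'N hx's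
    have hy' : SubpairLE p M (cs Q y) (conjBlock Q y f) P e := hy
    have hmemF : conjHom (cs Q y) (y * x * y⁻¹) ∈ F.Hom (cs Q y) := by
      refine (hF.2 _ _).2 ⟨chain_le hy', _, fun u => rfl, ?_, _, hy', ?_⟩
      · show cs (cs Q y) (y * x * y⁻¹) ≤ P
        rw [cs_eq_of_mem_normalizer hx'N]
        exact chain_le hy'
      · show Relation.ReflTransGen (NormalSubpairRel p M) (cp (y * x * y⁻¹) (cp y ⟨Q, f⟩)) ⟨P, e⟩
        rw [hcp]
        exact hy
    rw [hinner] at hmemF
    obtain ⟨-, u, hu, hux⟩ := hmemF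
    have huk : ∃ k, orderOf u = p ^ k := by
      obtain ⟨k, hk⟩ := (IsPGroup.iff_orderOf.1 hPe.1) ⟨u, hu⟩
      exact ⟨k, by simpa [Subgroup.orderOf_mk] using hk⟩
    obtain ⟨k, hk⟩ := huk
    have huN : u ∈ Subgroup.normalizer ((cs Q y : Subgroup G) : Set G) := by
      refine CfsgLib.Fusion.mem_normalizer_of_conj_mem fun q hq => ?_
      have h1 := hux ⟨q, hq⟩
      have h2 : y * x * y⁻¹ * q * (y * x * y⁻¹)⁻¹ = u * q * u⁻¹ := h1
      rw [← h2]
      exact (Subgroup.mem_normalizer_iff.1 hx'N _).1 hq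
    have hxr' : IsPRegular p (y * x * y⁻¹) := by
      show ¬ p ∣ orderOf (y * x * y⁻¹)
      rw [← MulAut.conj_apply, MulEquiv.orderOf_eq]
      exact hxr
    have h3 := mem_centralizer_of_action hx'N huN hxr' hk (fun q hq => hux ⟨q, hq⟩)
    exact (mem_centralizer_cs).1 h3

end Main

section Abelian

variable {G : Type u} [Group G] [Fintype G] {p : ℕ} [hp : Fact p.Prime] {M : Ideal AlgInt} (hM : IsPModular p M)

attribute [local instance] centFintype

omit hp in
theorem mem_normalizer_of_cs_eq {P : Subgroup G} {y : G} (h : cs P y = P) : y ∈ Subgroup.normalizer (P : Set G) := by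
  refine CfsgLib.Fusion.mem_normalizer_of_conj_mem fun q hq => ?_
  rw [← h]
  exact conj_mem_cs hq

include hM

theorem fullyCentralized_of_abelian {B : Set (IrrCharacter G)} {P : Subgroup G} {e : Set (IrrCharacter (Subgroup.centralizer (P : Set G)))}
    (hmax : IsMaximalBrauerPair p M B P e) (hab : ∀ x ∈ P, ∀ y ∈ P, x * y = y * x) {Q : Subgroup G}
    {f : Set (IrrCharacter (Subgroup.centralizer (Q : Set G)))} (hQP : Q ≤ P) (hf : IsPBlock M f) (hle : SubpairLE p M Q f P e) :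
    IsDefectGroup p M f (P.subgroupOf (Subgroup.centralizer (Q : Set G))) := by
  classical
  have hPC : P ≤ Subgroup.centralizer (Q : Set G) := fun x hx => Subgroup.mem_centralizer_iff.2 fun q hq => hab q (hQP hq) x hx
  have h1 := (s4678 hM hmax (blockFus_isBlock hM hmax) hQP hf hle).1 ⟨hQP, fun Q₁ hQ₁ => by
    have h2 : FusionSystem.centralizerIn P Q = P := inf_eq_left.2 hPC
    rw [h2]
    exact Subgroup.card_le_of_le inf_le_left⟩
  rwa [inf_eq_left.2 hPC] at h1

/-- **S4682**, first part. -/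
theorem stab_eq_of_abelian {B : Set (IrrCharacter G)} {P : Subgroup G} {e : Set (IrrCharacter (Subgroup.centralizer (P : Set G)))}
    (hmax : IsMaximalBrauerPair p M B P e) (hab : ∀ x ∈ P, ∀ y ∈ P, x * y = y * x) {Q : Subgroup G}
    {f : Set (IrrCharacter (Subgroup.centralizer (Q : Set G)))} (hQP : Q ≤ P) (hf : IsPBlock M f) (hle : SubpairLE p M Q f P e)
    {x : G} (hxN : x ∈ Subgroup.normalizer (Q : Set G)) (hxs : StabilizesBlock (Subgroup.centralizer (Q : Set G)) f x) :
    ∃ y ∈ Subgroup.normalizer (P : Set G), StabilizesBlock (Subgroup.centralizer (P : Set G)) e y ∧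
      ∃ c ∈ Subgroup.centralizer (Q : Set G), x = y * c := by
  classical
  have hPe := hmax.1.1
  have hPC : P ≤ Subgroup.centralizer (Q : Set G) := fun x hx => Subgroup.mem_centralizer_iff.2 fun q hq => hab q (hQP hq) x hx
  have hdef := fullyCentralized_of_abelian hM hmax hab hQP hf hle
  have hcp : cp x ⟨Q, f⟩ = ⟨Q, f⟩ := cp_eq_of_stabilizes hxN hxs
  have hY : Relation.ReflTransGen (NormalSubpairRel p M) ⟨Q, f⟩ (cp x ⟨P, e⟩) := by
    conv_lhs => rw [← hcp]
    exact subpairLE_cp hM x hle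
  have hYΓ : cs P x ≤ Subgroup.centralizer (Q : Set G) := by
    rintro _ ⟨y, hy, rfl⟩
    exact (Subgroup.mem_normalizer_iff.1 (le_normalizer_centralizer (le_refl _) hxN) _).1 (hPC hy)
  obtain ⟨c, hc, hch⟩ := conj_in_ambient hM (Q := Q) (f := f) (Γ := Subgroup.centralizer (Q : Set G)) (hQP.trans hPC) le_rfl hf
    (fun t => (subgroupBlockCoeff_of_mem (H := Subgroup.centralizer (Q : Set G)) f t).symm) hle hPC hPe hdef hY hYΓ (isBrauerPair_cs x hPe)
  replace hch : Relation.ReflTransGen (NormalSubpairRel p M) (cp c (cp x ⟨P, e⟩)) ⟨P, e⟩ := hch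
  rw [← cp_mul] at hch
  have hle1 : cs P (c * x) ≤ P := chain_le hch
  have hcs : cs P (c * x) = P := Subgroup.eq_of_le_of_card_ge hle1 (by
    rw [Subgroup.card_map_of_injective (MulAut.conj (c * x)).injective])
  have hyN := mem_normalizer_of_cs_eq hcs
  have hys := stabilizes_of_cp_eq hyN (pair_eq_of_chain hM hPe hch Relation.ReflTransGen.refl hcs)
  refine ⟨c * x, hyN, hys, x⁻¹ * c⁻¹ * x, ?_, by group⟩
  have h1 := (Subgroup.mem_normalizer_iff.1 (le_normalizer_centralizer (le_refl _) ((Subgroup.normalizer (Q : Set G)).inv_mem hxN)) c⁻¹).1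
    ((Subgroup.centralizer (Q : Set G)).inv_mem hc)
  simpa using h1

/-- **S4682**. -/
theorem s4682 {B : Set (IrrCharacter G)} {P : Subgroup G} {e : Set (IrrCharacter (Subgroup.centralizer (P : Set G)))}
    (hmax : IsMaximalBrauerPair p M B P e) (hab : ∀ x ∈ P, ∀ y ∈ P, x * y = y * x) {Q : Subgroup G}
    {f : Set (IrrCharacter (Subgroup.centralizer (Q : Set G)))} (hQP : Q ≤ P) (hf : IsPBlock M f) (hle : SubpairLE p M Q f P e)
    (TQ : Subgroup G) (hTQ : ∀ y : G, y ∈ TQ ↔ y ∈ Subgroup.normalizer (Q : Set G) ∧ StabilizesBlock (Subgroup.centralizer (Q : Set G)) f y)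
    (TP : Subgroup G) (hTP : ∀ y : G, y ∈ TP ↔ y ∈ Subgroup.normalizer (P : Set G) ∧ StabilizesBlock (Subgroup.centralizer (P : Set G)) e y) :
    (∀ x ∈ TQ, ∃ y ∈ TP, ∃ c ∈ Subgroup.centralizer (Q : Set G), x = y * c) ∧
      ((Subgroup.centralizer (Q : Set G)).subgroupOf TQ).index =
        ((TP ⊓ Subgroup.centralizer (Q : Set G)).subgroupOf (TP ⊓ Subgroup.normalizer (Q : Set G))).index := by
  classical
  have hPe := hmax.1.1
  have hpart : ∀ x ∈ TQ, ∃ y ∈ TP, ∃ c ∈ Subgroup.centralizer (Q : Set G), x = y * c := by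
    intro x hx
    obtain ⟨hxN, hxs⟩ := (hTQ x).1 hx
    obtain ⟨y, hyN, hys, c, hc, hxy⟩ := stab_eq_of_abelian hM hmax hab hQP hf hle hxN hxs
    exact ⟨y, (hTP y).2 ⟨hyN, hys⟩, c, hc, hxy⟩
  refine ⟨hpart, ?_⟩
  have hCT : Subgroup.centralizer (Q : Set G) ≤ TQ := fun c hc =>
    (hTQ c).2 ⟨Subgroup.centralizer_le_normalizer _ hc, stabilizes_of_mem_centralizer _ hc⟩
  have hAT : TP ⊓ Subgroup.normalizer (Q : Set G) ≤ TQ := by
    rintro y ⟨hyP, hyN⟩
    obtain ⟨hy1, hy2⟩ := (hTP y).1 hyP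
    refine (hTQ y).2 ⟨hyN, stabilizes_of_cp_eq hyN ?_⟩
    have h1 := subpairLE_cp hM y hle
    rw [cp_eq_of_stabilizes hy1 hy2] at h1
    exact pair_eq_of_chain hM hPe h1 hle (cs_eq_of_mem_normalizer hyN)
  haveI hn : ((Subgroup.centralizer (Q : Set G)).subgroupOf TQ).Normal := ambient_normal hCT fun t ht => ((hTQ t).1 ht).1
  have htop : ((TP ⊓ Subgroup.normalizer (Q : Set G)).subgroupOf TQ) ⊔ (Subgroup.centralizer (Q : Set G)).subgroupOf TQ = ⊤ := by
    rw [eq_top_iff]
    rintro x -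
    obtain ⟨y, hy, c, hc, hxy⟩ := hpart x x.2
    have hyN : y ∈ Subgroup.normalizer (Q : Set G) := by
      have h1 : y = x * c⁻¹ := by rw [hxy]; group
      rw [h1]
      exact Subgroup.mul_mem _ ((hTQ x).1 x.2).1 (Subgroup.centralizer_le_normalizer _ ((Subgroup.centralizer (Q : Set G)).inv_mem hc))
    have hyT : y ∈ TQ := hAT ⟨hy, hyN⟩
    have h2 : x = (⟨y, hyT⟩ : TQ) * ⟨c, hCT hc⟩ := Subtype.ext hxy
    rw [h2]
    exact Subgroup.mul_mem_sup (Subgroup.mem_subgroupOf.2 ⟨hy, hyN⟩) (Subgroup.mem_subgroupOf.2 hc)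
  have h3 := Subgroup.relIndex_sup_right ((TP ⊓ Subgroup.normalizer (Q : Set G)).subgroupOf TQ) ((Subgroup.centralizer (Q : Set G)).subgroupOf TQ)
  rw [htop, Subgroup.relIndex_top_right] at h3
  rw [h3]
  have h4 : ((Subgroup.centralizer (Q : Set G)).subgroupOf TQ).relIndex ((TP ⊓ Subgroup.normalizer (Q : Set G)).subgroupOf TQ) =
      (Subgroup.centralizer (Q : Set G)).relIndex (TP ⊓ Subgroup.normalizer (Q : Set G)) := by
    have h5 := Subgroup.relIndex_comap (Subgroup.centralizer (Q : Set G)) TQ.subtype ((TP ⊓ Subgroup.normalizer (Q : Set G)).subgroupOf TQ)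
    rw [Subgroup.map_subgroupOf_eq_of_le hAT] at h5
    exact h5
  rw [h4]
  show _ = ((TP ⊓ Subgroup.centralizer (Q : Set G)).subgroupOf (TP ⊓ Subgroup.normalizer (Q : Set G))).index
  have h6 : (TP ⊓ Subgroup.centralizer (Q : Set G)).subgroupOf (TP ⊓ Subgroup.normalizer (Q : Set G)) =
      (Subgroup.centralizer (Q : Set G)).subgroupOf (TP ⊓ Subgroup.normalizer (Q : Set G)) := by
    ext y
    rw [Subgroup.mem_subgroupOf, Subgroup.mem_subgroupOf, Subgroup.mem_inf]
    exact ⟨fun h => h.2, fun h => ⟨y.2.1, h⟩⟩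
  rw [h6]
  rfl

/-- **S4687** -/
theorem s4687 {B : Set (IrrCharacter G)} {P : Subgroup G} {e : Set (IrrCharacter (Subgroup.centralizer (P : Set G)))}
    (hmax : IsMaximalBrauerPair p M B P e) (hab : ∀ x ∈ P, ∀ y ∈ P, x * y = y * x) :
    IsNilpotentBlock p M B ↔ ∀ x : G, x ∈ Subgroup.normalizer (P : Set G) → StabilizesBlock (Subgroup.centralizer (P : Set G)) e x →
      x ∈ Subgroup.centralizer (P : Set G) := by
  classical
  have hPe := hmax.1.1
  have hPC : P ≤ Subgroup.centralizer (P : Set G) := fun x hx => Subgroup.mem_centralizer_iff.2 fun q hq => hab q hq x hx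
  constructor
  · intro hnil x hxN hxs
    have hxT : x ∈ stabT (⟨P, e⟩ : BrauerPairIdx G) := mem_stabT.2 ⟨hxN, hxs⟩
    have hreg : pReg p x ∈ Subgroup.centralizer (P : Set G) := by
      obtain ⟨h2, h3⟩ := mem_stabT.1 (pReg_mem_of_mem _ (p := p) hxT)
      exact hnil.2 P e hmax.1 _ h2 h3 (not_dvd_orderOf_pReg x)
    have hpart : pPart p x ∈ Subgroup.centralizer (P : Set G) := by
      obtain ⟨y, hy, E, hE, hcoeff, hD⟩ := fam_defect hM (stabFam hM) hmax (a := ⟨P, e⟩) Relation.ReflTransGen.refl hPe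
      have hcs : cs P y = P := Subgroup.eq_of_le_of_card_ge (chain_le hy) (by
        rw [Subgroup.card_map_of_injective (MulAut.conj y).injective])
      have hcpy : cp y ⟨P, e⟩ = ⟨P, e⟩ := pair_eq_of_chain hM hPe hy Relation.ReflTransGen.refl hcs
      generalize hb : cp y ⟨P, e⟩ = b at E hE hcoeff hD
      rw [hcpy] at hb
      subst hb
      letI : Fintype (stabT (⟨P, e⟩ : BrauerPairIdx G)) := Fintype.ofFinite _
      have hCT : Subgroup.centralizer (P : Set G) ≤ stabT (⟨P, e⟩ : BrauerPairIdx G) := fun c hc =>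
        mem_stabT.2 ⟨Subgroup.centralizer_le_normalizer _ hc, stabilizes_of_mem_centralizer _ hc⟩
      obtain ⟨-, h2⟩ := ambient_knorr hM hPe.2 hCT (fun t ht => mem_stabT.1 ht) hE hcoeff hD
      have h3 : (Subgroup.centralizer (P : Set G)).subgroupOf (stabT (⟨P, e⟩ : BrauerPairIdx G)) ⊔
          (P ⊓ stabT (⟨P, e⟩ : BrauerPairIdx G)).subgroupOf (stabT (⟨P, e⟩ : BrauerPairIdx G)) =
          (Subgroup.centralizer (P : Set G)).subgroupOf (stabT (⟨P, e⟩ : BrauerPairIdx G)) := by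
        refine sup_eq_left.2 fun t ht => ?_
        exact hPC (show (t : G) ∈ P ⊓ stabT (⟨P, e⟩ : BrauerPairIdx G) from ht).1
      replace h2 : ¬ p ∣ ((Subgroup.centralizer (P : Set G)).subgroupOf (stabT (⟨P, e⟩ : BrauerPairIdx G)) ⊔
          (P ⊓ stabT (⟨P, e⟩ : BrauerPairIdx G)).subgroupOf (stabT (⟨P, e⟩ : BrauerPairIdx G))).index := h2
      rw [h3] at h2
      haveI hn : ((Subgroup.centralizer (P : Set G)).subgroupOf (stabT (⟨P, e⟩ : BrauerPairIdx G))).Normal :=
        ambient_normal hCT fun t ht => (mem_stabT.1 ht).1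
      have hptT := pPart_mem_of_mem (p := p) _ hxT
      obtain ⟨k, hk⟩ := orderOf_pPart (p := p) x
      have h4 := Subgroup.pow_index_mem ((Subgroup.centralizer (P : Set G)).subgroupOf (stabT (⟨P, e⟩ : BrauerPairIdx G))) (⟨pPart p x, hptT⟩ : stabT (⟨P, e⟩ : BrauerPairIdx G))
      have h5 : pPart p x ^ ((Subgroup.centralizer (P : Set G)).subgroupOf (stabT (⟨P, e⟩ : BrauerPairIdx G))).index ∈ Subgroup.centralizer (P : Set G) := h4
      have hcop : (((Subgroup.centralizer (P : Set G)).subgroupOf (stabT (⟨P, e⟩ : BrauerPairIdx G))).index).Coprime (orderOf (pPart p x)) := by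
        rw [hk]
        exact Nat.Coprime.pow_right _ ((Nat.Prime.coprime_iff_not_dvd hp.out).2 h2).symm
      obtain ⟨m, hm⟩ := exists_pow_eq_self_of_coprime hcop
      rw [← hm]
      exact Subgroup.pow_mem _ h5 _
    rw [← pPart_mul_pReg (p := p) x]
    exact Subgroup.mul_mem _ hpart hreg
  · intro hyp
    refine ⟨hmax.1.2.1, fun Q f hQf x hxN hxs hxr => ?_⟩
    obtain ⟨y, hy⟩ := exists_conj_below hM hmax hQf
    have hQ'P : cs Q y ≤ P := chain_le hy
    have hx'N : y * x * y⁻¹ ∈ Subgroup.normalizer ((cs Q y : Subgroup G) : Set G) := by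
      rw [Subgroup.mem_normalizer_iff]
      intro u
      rw [mem_cs, mem_cs]
      have h7 : y⁻¹ * (y * x * y⁻¹ * u * (y * x * y⁻¹)⁻¹) * y = x * (y⁻¹ * u * y) * x⁻¹ := by group
      rw [h7]
      exact Subgroup.mem_normalizer_iff.1 hxN _
    have hx's := stabilizes_cs hM y hxs
    obtain ⟨z, hzN, hzs, c, hc, hzc⟩ := stab_eq_of_abelian hM hmax hab hQ'P (isBrauerPair_cs y hQf.1).2 hy hx'N hx's
    have hzC : z ∈ Subgroup.centralizer ((cs Q y : Subgroup G) : Set G) := centralizer_anti hQ'P (hyp z hzN hzs)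
    rw [← mem_centralizer_cs (x := y), hzc]
    exact Subgroup.mul_mem _ hzC hc

end Abelian

end CfsgLib.Block
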