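import Cfsg.Agent.Lib.Block.V4B2
import Cfsg.Agent.Lib.Block.NilFus
import Cfsg.Agent.Lib.Block.Inert

/-! # Blocks with a Klein four defect group: subsections and Brauer pairs -/

set_option autoImplicit false
set_option linter.unusedSectionVars false
set_option linter.unusedVariables false

namespace CfsgLib.Block

open Cfsg CfsgLib.Char
open scoped ComplexConjugate Pointwise

universe u v

section TransportMore

variable {H : Type u} {K : Type v} [Group H] [Group K]

theorem blockDefect_setT [Finite H] [Finite K] (p : ℕ) (φ : H ≃* K) (f : Set (IrrCharacter H)) :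
    blockDefect p (setT φ f) = blockDefect p f := by
  unfold blockDefect
  rw [← Nat.card_congr φ.toEquiv]
  congr 2
  ext n
  constructor
  · rintro ⟨ξ, hξ, rfl⟩
    refine ⟨(irrT φ).symm ξ, hξ, ?_⟩
    have := charDegree_irrT φ ((irrT φ).symm ξ)
    rw [Equiv.apply_symm_apply] at this
    show (charDegree _).factorization p = (charDegree _).factorization p
    rw [this]
  · rintro ⟨ξ, hξ, rfl⟩
    refine ⟨irrT φ ξ, (irrT_mem_setT φ).2 hξ, ?_⟩
    show (charDegree _).factorization p = (charDegree _).factorization p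
    rw [charDegree_irrT]

theorem pRegularPart_comp (p : ℕ) (φ : H ≃* K) (ξ : H → ℂ) (k : K) :
    pRegularPart p (ξ ∘ φ.symm) k = pRegularPart p ξ (φ.symm k) := by
  classical
  have h : IsPRegular p (φ.symm k) ↔ IsPRegular p k := by
    unfold IsPRegular
    rw [MulEquiv.orderOf_eq]
  unfold pRegularPart
  simp only [Function.comp]
  by_cases hk : IsPRegular p k
  · rw [if_pos hk, if_pos (h.2 hk)]
  · rw [if_neg hk, if_neg (fun h' => hk (h.1 h'))]

theorem blockRank_setT (p : ℕ) (φ : H ≃* K) (f : Set (IrrCharacter H)) :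
    blockRank p (setT φ f) = blockRank p f := by
  classical
  let L : (H → ℂ) ≃ₗ[ℂ] (K → ℂ) := LinearEquiv.funCongrLeft ℂ ℂ φ.symm.toEquiv
  have hL : ∀ (v : H → ℂ) (k : K), L v k = v (φ.symm k) := fun v k => rfl
  have h1 : Submodule.span ℂ ((fun χ : IrrCharacter K => pRegularPart p (χ : K → ℂ)) '' setT φ f) =
      (Submodule.span ℂ ((fun χ : IrrCharacter H => pRegularPart p (χ : H → ℂ)) '' f)).map (L : (H → ℂ) →ₗ[ℂ] (K → ℂ)) := by
    rw [Submodule.map_span]
    congr 1
    ext v
    constructor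
    · rintro ⟨ξ, hξ, rfl⟩
      refine ⟨_, ⟨(irrT φ).symm ξ, hξ, rfl⟩, ?_⟩
      funext k
      have e : (ξ : K → ℂ) = (((irrT φ).symm ξ : IrrCharacter H) : H → ℂ) ∘ φ.symm := by
        funext k'
        simp [irrT_symm_coe]
      show L _ k = pRegularPart p (ξ : K → ℂ) k
      rw [hL, e, pRegularPart_comp]
    · rintro ⟨_, ⟨ξ, hξ, rfl⟩, rfl⟩
      refine ⟨irrT φ ξ, (irrT_mem_setT φ).2 hξ, ?_⟩
      funext k
      show pRegularPart p (irrT φ ξ : K → ℂ) k = L _ k
      rw [hL, irrT_coe, pRegularPart_comp]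
  rw [blockRank, blockRank, h1]
  exact LinearEquiv.finrank_map_eq L _

end TransportMore

section Pr

variable {G : Type u} [Group G]

theorem centralizer_singleton_eq_zpowers (x : G) :
    Subgroup.centralizer ({x} : Set G) = Subgroup.centralizer ((Subgroup.zpowers x : Subgroup G) : Set G) := by
  ext g
  rw [Subgroup.mem_centralizer_singleton_iff, Subgroup.mem_centralizer_iff]
  constructor
  · intro h y hy
    obtain ⟨i, rfl⟩ := hy
    exact (Commute.zpow_left (show Commute x g from h.symm) i).eq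
  · intro h
    exact (h x (Subgroup.mem_zpowers x)).symm

/-- The two forms of the centralizer of an element. -/
noncomputable def prT (x : G) : Subgroup.centralizer ({x} : Set G) ≃* Subgroup.centralizer ((Subgroup.zpowers x : Subgroup G) : Set G) :=
  MulEquiv.subgroupCongr (centralizer_singleton_eq_zpowers x)

/-- The Brauer pair attached to a block of the centralizer of an element. -/
noncomputable def pr (x : G) (b : Set (IrrCharacter (Subgroup.centralizer ({x} : Set G)))) : BrauerPairIdx G :=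
  ⟨Subgroup.zpowers x, setT (prT x) b⟩

theorem pr_injective (x : G) {b b' : Set (IrrCharacter (Subgroup.centralizer ({x} : Set G)))} (h : pr x b = pr x b') : b = b' := by
  have h1 : setT (prT x) b = setT (prT x) b' := eq_of_heq (Sigma.mk.inj h).2
  rw [← setT_symm_setT (prT x) b, ← setT_symm_setT (prT x) b', h1]

theorem exists_pr {x : G} (a : BrauerPairIdx G) (h : a.1 = Subgroup.zpowers x) :
    ∃ b : Set (IrrCharacter (Subgroup.centralizer ({x} : Set G))), pr x b = a := by
  obtain ⟨Q, f⟩ := a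
  simp only at h
  subst h
  refine ⟨setT (prT x).symm f, ?_⟩
  show (⟨Subgroup.zpowers x, setT (prT x) (setT (prT x).symm f)⟩ : BrauerPairIdx G) = _
  rw [setT_setT_symm]

theorem isInducedBlock_congr {M : Ideal AlgInt} {H₁ H₂ : Subgroup G} (h : H₁ = H₂) {b : Set (IrrCharacter H₁)} {B : Set (IrrCharacter G)} :
    IsInducedBlock M H₁ b B ↔ IsInducedBlock M H₂ (setT (MulEquiv.subgroupCongr h) b) B := by
  subst h
  have h1 : setT (MulEquiv.subgroupCongr (rfl : H₁ = H₁)) b = b := by
    ext ξ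
    rw [mem_setT]
    have : (irrT (MulEquiv.subgroupCongr (rfl : H₁ = H₁))).symm ξ = ξ := Subtype.ext (funext fun c => rfl)
    rw [this]
  rw [h1]

theorem cs_zpowers (x g : G) : cs (Subgroup.zpowers x) g = Subgroup.zpowers (g * x * g⁻¹) := by
  show (Subgroup.zpowers x).map (MulAut.conj g).toMonoidHom = _
  rw [MonoidHom.map_zpowers]
  rfl

end Pr

section Rel

variable {G : Type u} [Group G] [Fintype G] {p : ℕ} [hp : Fact p.Prime] {M : Ideal AlgInt}

attribute [local instance] centFintype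

/-- The relation between a subsection and an element of the defect group. -/
def RelV (p : ℕ) (M : Ideal AlgInt) (P : Subgroup G) (c : Set (IrrCharacter (Subgroup.centralizer (P : Set G))))
    (x : G) (b : Set (IrrCharacter (Subgroup.centralizer ({x} : Set G)))) (u : G) : Prop :=
  ∃ g : G, g * x * g⁻¹ = u ∧ Relation.ReflTransGen (NormalSubpairRel p M) (cp g (pr x b)) ⟨P, c⟩

variable (hM : IsPModular p M) {B : Set (IrrCharacter G)} {P : Subgroup G} {c : Set (IrrCharacter (Subgroup.centralizer (P : Set G)))}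
include hM

theorem rel_exists (hmax : IsMaximalBrauerPair p M B P c) {x : G} (hk : ∃ k, orderOf x = p ^ k) (hx1 : x ≠ 1)
    {b : Set (IrrCharacter (Subgroup.centralizer ({x} : Set G)))} [Fintype (Subgroup.centralizer ({x} : Set G))]
    (hind : IsInducedBlock M (Subgroup.centralizer ({x} : Set G)) b B) :
    ∃ u, u ∈ P ∧ u ≠ 1 ∧ RelV p M P c x b u := by
  obtain ⟨k, hk⟩ := hk
  have hzp : IsPGroup p (Subgroup.zpowers x) := by
    rw [IsPGroup.iff_card]
    exact ⟨k, by rw [Nat.card_zpowers, hk]⟩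
  have h1 := (isInducedBlock_congr (centralizer_singleton_eq_zpowers x)).1 hind
  have h2 : IsBrauerPairOf p M B (Subgroup.zpowers x) (setT (prT x) b) := (isPair_iff_isInduced hM hzp).2 h1
  obtain ⟨g, hg⟩ := exists_conj_below hM hmax h2
  refine ⟨g * x * g⁻¹, chain_le hg (conj_mem_cs (Subgroup.mem_zpowers x)), ?_, g, rfl, hg⟩
  intro h
  apply hx1
  have : g⁻¹ * (g * x * g⁻¹) * g = g⁻¹ * 1 * g := by rw [h]
  simpa [mul_assoc] using this

theorem rel_surj (hmax : IsMaximalBrauerPair p M B P c) {u : G} (huP : u ∈ P) {g x : G} (hgx : g * x * g⁻¹ = u)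
    [Fintype (Subgroup.centralizer ({x} : Set G))] :
    ∃ b : Set (IrrCharacter (Subgroup.centralizer ({x} : Set G))), IsInducedBlock M (Subgroup.centralizer ({x} : Set G)) b B ∧
      RelV p M P c x b u := by
  have hPe := hmax.1.1
  have hQP : Subgroup.zpowers u ≤ P := by
    rw [Subgroup.zpowers_le]; exact huP
  obtain ⟨f, hf, hle⟩ := exists_subpair hM hPe (Subgroup.zpowers u) hQP
  have hzp : IsPGroup p (Subgroup.zpowers u) := hPe.1.to_le hQP
  have hpair : IsBrauerPairOf p M B (Subgroup.zpowers u) f := (pair_iff_of_chain hM hPe ⟨hzp, hf⟩ hle hmax.1.2.1).1 hmax.1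
  have hgu : g⁻¹ * u * g⁻¹⁻¹ = x := by
    rw [← hgx]; group
  have ha1 : (cp g⁻¹ (⟨Subgroup.zpowers u, f⟩ : BrauerPairIdx G)).1 = Subgroup.zpowers x := by
    show cs (Subgroup.zpowers u) g⁻¹ = _
    rw [cs_zpowers, hgu]
  obtain ⟨b, hb⟩ := exists_pr _ ha1
  have hapair : IsBrauerPairOf p M B (cp g⁻¹ (⟨Subgroup.zpowers u, f⟩ : BrauerPairIdx G)).1 (cp g⁻¹ (⟨Subgroup.zpowers u, f⟩ : BrauerPairIdx G)).2 :=
    isBrauerPairOf_cs hM g⁻¹ hpair
  rw [← hb] at hapair
  have hk : IsPGroup p (Subgroup.zpowers x) := by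
    have : IsPGroup p (Subgroup.zpowers (g⁻¹ * u * g⁻¹⁻¹)) := by
      rw [← cs_zpowers]
      exact hzp.map _
    rwa [hgu] at this
  have h1 : IsInducedBlock M (Subgroup.centralizer ((Subgroup.zpowers x : Subgroup G) : Set G)) (setT (prT x) b) B :=
    (isPair_iff_isInduced hM hk).1 hapair
  have h2 : IsInducedBlock M (Subgroup.centralizer ({x} : Set G)) b B := (isInducedBlock_congr (centralizer_singleton_eq_zpowers x)).2 h1
  refine ⟨b, h2, g, hgx, ?_⟩
  rw [hb, ← cp_mul, mul_inv_cancel, cp_one]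
  exact hle

theorem rel_unique (hPe : IsBrauerPair p M P c) {x u : G} {b b' : Set (IrrCharacter (Subgroup.centralizer ({x} : Set G)))}
    (h : RelV p M P c x b u) (h' : RelV p M P c x b' u) : b = b' := by
  obtain ⟨g, hg, hl⟩ := h
  obtain ⟨g', hg', hl'⟩ := h'
  have heq : cp g (pr x b) = cp g' (pr x b') := by
    refine pair_eq_of_chain hM hPe hl hl' ?_
    show cs (Subgroup.zpowers x) g = cs (Subgroup.zpowers x) g'
    rw [cs_zpowers, cs_zpowers, hg, hg']
  have ht : g⁻¹ * g' ∈ Subgroup.centralizer ((Subgroup.zpowers x : Subgroup G) : Set G) := by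
    rw [← centralizer_singleton_eq_zpowers, Subgroup.mem_centralizer_singleton_iff]
    have h2 : g * x * g⁻¹ = g' * x * g'⁻¹ := by rw [hg, hg']
    calc g⁻¹ * g' * x = g⁻¹ * (g' * x * g'⁻¹) * g' := by group
      _ = g⁻¹ * (g * x * g⁻¹) * g' := by rw [h2]
      _ = x * (g⁻¹ * g') := by group
  have h3 : cp (g⁻¹ * g') (pr x b') = pr x b' :=
    cp_eq_of_stabilizes (Subgroup.centralizer_le_normalizer _ ht) (stabilizes_of_mem_centralizer _ ht)
  have h4 : pr x b = cp (g⁻¹ * g') (pr x b') := by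
    rw [cp_mul, ← heq, ← cp_mul, inv_mul_cancel, cp_one]
  rw [h3] at h4
  exact pr_injective x h4

/-- A conjugation between subpairs of a maximal pair with abelian group is realized in the stabilizer. -/
theorem conj_eq_of_abelian (hmax : IsMaximalBrauerPair p M B P c) (hab : ∀ x ∈ P, ∀ y ∈ P, x * y = y * x)
    {a₁ a₂ : BrauerPairIdx G} (h₁ : Relation.ReflTransGen (NormalSubpairRel p M) a₁ ⟨P, c⟩)
    (h₂ : Relation.ReflTransGen (NormalSubpairRel p M) a₂ ⟨P, c⟩) (hf₂ : IsPBlock M a₂.2) {y : G} (hy : cp y a₁ = a₂) :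
    ∃ z ∈ Subgroup.centralizer (a₂.1 : Set G), z * y ∈ Subgroup.normalizer (P : Set G) ∧
      StabilizesBlock (Subgroup.centralizer (P : Set G)) c (z * y) := by
  classical
  obtain ⟨Q, f⟩ := a₂
  simp only at hf₂ ⊢
  have hPe := hmax.1.1
  have hQP : Q ≤ P := chain_le h₂
  have hPC : P ≤ Subgroup.centralizer (Q : Set G) := fun x hx => Subgroup.mem_centralizer_iff.2 fun q hq => hab q (hQP hq) x hx
  have hdef := fullyCentralized_of_abelian hM hmax hab hQP hf₂ h₂
  have hY : Relation.ReflTransGen (NormalSubpairRel p M) ⟨Q, f⟩ (cp y ⟨P, c⟩) := by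
    rw [← hy]
    exact subpairLE_cp hM y h₁
  have hQe : Q = cs a₁.1 y := (congrArg Sigma.fst hy).symm
  have h1P : a₁.1 ≤ P := chain_le h₁
  have hYΓ : cs P y ≤ Subgroup.centralizer (Q : Set G) := by
    rintro _ ⟨w, hw, rfl⟩
    rw [Subgroup.mem_centralizer_iff]
    intro q hq
    rw [SetLike.mem_coe, hQe, mem_cs] at hq
    have h3 := hab _ (h1P hq) w hw
    simp only [MulEquiv.coe_toMonoidHom, MulAut.conj_apply]
    calc q * (y * w * y⁻¹) = y * ((y⁻¹ * q * y) * w) * y⁻¹ := by group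
      _ = y * (w * (y⁻¹ * q * y)) * y⁻¹ := by rw [h3]
      _ = y * w * y⁻¹ * q := by group
  obtain ⟨z, hz, hch⟩ := conj_in_ambient hM (Q := Q) (f := f) (Γ := Subgroup.centralizer (Q : Set G)) (hQP.trans hPC) le_rfl hf₂
    (fun t => (subgroupBlockCoeff_of_mem (H := Subgroup.centralizer (Q : Set G)) f t).symm) h₂ hPC hPe hdef hY hYΓ (isBrauerPair_cs y hPe)
  replace hch : Relation.ReflTransGen (NormalSubpairRel p M) (cp z (cp y ⟨P, c⟩)) ⟨P, c⟩ := hch
  rw [← cp_mul] at hch
  have hle1 : cs P (z * y) ≤ P := chain_le hch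
  have hcs : cs P (z * y) = P := Subgroup.eq_of_le_of_card_ge hle1 (by
    rw [Subgroup.card_map_of_injective (MulAut.conj (z * y)).injective])
  have hyN := mem_normalizer_of_cs_eq hcs
  have hys := stabilizes_of_cp_eq hyN (pair_eq_of_chain hM hPe hch Relation.ReflTransGen.refl hcs)
  exact ⟨z, hz, hyN, hys⟩

theorem rel_orbit (hmax : IsMaximalBrauerPair p M B P c) (hab : ∀ x ∈ P, ∀ y ∈ P, x * y = y * x) {x u v : G}
    {b : Set (IrrCharacter (Subgroup.centralizer ({x} : Set G)))} (hb : IsPBlock M b)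
    (h : RelV p M P c x b u) (h' : RelV p M P c x b v) :
    ∃ t ∈ Subgroup.normalizer (P : Set G), StabilizesBlock (Subgroup.centralizer (P : Set G)) c t ∧ t * u * t⁻¹ = v := by
  obtain ⟨g, hg, hl⟩ := h
  obtain ⟨g', hg', hl'⟩ := h'
  have hcp : cp (g' * g⁻¹) (cp g (pr x b)) = cp g' (pr x b) := by
    rw [← cp_mul]
    congr 1
    group
  have hbl : IsPBlock M (cp g' (pr x b)).2 := (isBrauerPair_cs g' (⟨(by
      obtain ⟨k, hk⟩ : ∃ k, True := ⟨0, trivial⟩
      have hPp : IsPGroup p P := hmax.1.1.1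
      have h1 : IsPGroup p (cs (Subgroup.zpowers x) g') := hPp.to_le (chain_le hl')
      have h2 : IsPGroup p ((cs (Subgroup.zpowers x) g').map (MulAut.conj g'⁻¹).toMonoidHom) := h1.map _
      have h3 : (cs (Subgroup.zpowers x) g').map (MulAut.conj g'⁻¹).toMonoidHom = Subgroup.zpowers x := by
        rw [cs_zpowers]
        show (Subgroup.zpowers (g' * x * g'⁻¹)).map (MulAut.conj g'⁻¹).toMonoidHom = _
        rw [MonoidHom.map_zpowers]
        congr 1
        show g'⁻¹ * (g' * x * g'⁻¹) * g'⁻¹⁻¹ = x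
        group
      rwa [h3] at h2), isPBlock_setT _ hb⟩ : IsBrauerPair p M (pr x b).1 (pr x b).2)).2
  obtain ⟨z, hz, hN, hs⟩ := conj_eq_of_abelian hM hmax hab hl hl' hbl hcp
  refine ⟨z * (g' * g⁻¹), hN, hs, ?_⟩
  have hzv : z * v * z⁻¹ = v := by
    have h1 : v ∈ (cp g' (pr x b)).1 := by
      show v ∈ cs (Subgroup.zpowers x) g'
      rw [cs_zpowers, hg']
      exact Subgroup.mem_zpowers v
    have h2 := Subgroup.mem_centralizer_iff.1 hz v h1
    calc z * v * z⁻¹ = v * z * z⁻¹ := by rw [← h2]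
      _ = v := by group
  calc z * (g' * g⁻¹) * u * (z * (g' * g⁻¹))⁻¹ = z * (g' * (g⁻¹ * u * g) * g'⁻¹) * z⁻¹ := by group
    _ = z * v * z⁻¹ := by rw [← hg']; congr 2; rw [← hg]; group
    _ = v := hzv

theorem rel_trans (hPe : IsBrauerPair p M P c) {x u t : G} {b : Set (IrrCharacter (Subgroup.centralizer ({x} : Set G)))}
    (ht : t ∈ Subgroup.normalizer (P : Set G)) (hs : StabilizesBlock (Subgroup.centralizer (P : Set G)) c t)
    (h : RelV p M P c x b u) : RelV p M P c x b (t * u * t⁻¹) := by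
  obtain ⟨g, hg, hl⟩ := h
  refine ⟨t * g, by rw [← hg]; group, ?_⟩
  rw [cp_mul]
  have := subpairLE_cp hM t hl
  rwa [cp_eq_of_stabilizes ht hs] at this

end Rel

end CfsgLib.Block
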