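import Cfsg.Agent.Lib.Block.MaxPair3
import Cfsg.Agent.Lib.Block.Infl2
import Cfsg.Agent.Lib.Block.BrCorr
import Cfsg.Agent.Lib.Block.Quick
import Cfsg.Agent.Lib.Block.V4B3
import Cfsg.Agent.Lib.FGS.PiCore

/-! # Normal `π'`-subgroups in the kernels of blocks, along Brauer pairs -/

set_option autoImplicit false
set_option linter.unusedSectionVars false
set_option linter.unusedVariables false

namespace CfsgLib.Block

open Cfsg CfsgLib.Char CfsgLib.FGS
open scoped ComplexConjugate Pointwise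

universe u

section Avg

variable {H : Type u} [Group H] [Fintype H] (N : Subgroup H) [hN : N.Normal]

theorem om_avgA_of_ker (ψ : IrrCharacter H) (h : ∀ n ∈ N, (ψ : H → ℂ) n = (ψ : H → ℂ) 1) :
    om (ψ : H → ℂ) (avgA N) = 1 := by
  classical
  have h1 := ψ.2.map_one_ne_zero
  have hN0 : (Nat.card N : ℂ) ≠ 0 := card_ne_zero_C N
  rw [om, hat]
  have h2 : ∀ g : H, (avgA N).coeff g * (ψ : H → ℂ) g =
      if g ∈ N then (Nat.card N : ℂ)⁻¹ * (ψ : H → ℂ) 1 else 0 := by
    intro g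
    rw [coeff_avgA]
    by_cases hg : g ∈ N
    · rw [if_pos hg, if_pos hg, h g hg]
    · rw [if_neg hg, if_neg hg, zero_mul]
  simp only [h2]
  rw [← Finset.sum_filter, Finset.sum_const, nsmul_eq_mul]
  have h3 : ((Finset.univ.filter (· ∈ N)).card : ℂ) = (Nat.card N : ℂ) := by
    rw [Nat.card_eq_fintype_card, Fintype.card_subtype]
  rw [h3]
  field_simp

theorem om_avgA_cases (ψ : IrrCharacter H) :
    (om (ψ : H → ℂ) (avgA N) = 1 ∧ ∀ n ∈ N, (ψ : H → ℂ) n = (ψ : H → ℂ) 1) ∨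
      (om (ψ : H → ℂ) (avgA N) = 0 ∧ ¬ ∀ n ∈ N, (ψ : H → ℂ) n = (ψ : H → ℂ) 1) := by
  by_cases h : ∀ n ∈ N, (ψ : H → ℂ) n = (ψ : H → ℂ) 1
  · exact Or.inl ⟨om_avgA_of_ker N ψ h, h⟩
  · refine Or.inr ⟨?_, h⟩
    by_contra h0
    exact h (ker_of_om_avgA_ne N ψ h0)

end Avg

section Core

variable {G : Type u} [Group G] [Fintype G] {p : ℕ} [hp : Fact p.Prime] {M : Ideal AlgInt} (hM : IsPModular p M)

theorem normal_subgroupOf_of_le' {L Y : Subgroup G} (h : Y ≤ Subgroup.normalizer (L : Set G)) :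
    (L.subgroupOf Y).Normal := by
  constructor
  intro n hn g
  rw [Subgroup.mem_subgroupOf] at hn ⊢
  exact (Subgroup.mem_normalizer_iff.1 (h g.2) n).1 hn

theorem card_subgroupOf_dvd (L Y : Subgroup G) : Nat.card (L.subgroupOf Y) ∣ Nat.card L := by
  have h1 : (L.subgroupOf Y).map Y.subtype = L ⊓ Y := Subgroup.subgroupOf_map_subtype L Y
  have h2 : Nat.card ((L.subgroupOf Y).map Y.subtype) = Nat.card (L.subgroupOf Y) :=
    Subgroup.card_map_of_injective Y.subtype_injective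
  rw [← h2, h1]
  exact Subgroup.card_dvd_of_le inf_le_left

theorem card_subgroupOf_of_le {L Y : Subgroup G} (h : L ≤ Y) : Nat.card (L.subgroupOf Y) = Nat.card L :=
  Nat.card_congr (Subgroup.subgroupOfEquivOfLe h).toEquiv

variable {P X : Subgroup G} [Fintype X] [Fintype (Subgroup.centralizer (P : Set G))]

/-- The Brauer image of an average. -/
theorem brC_incl_avgA {L : Subgroup G} (hCX : Subgroup.centralizer (P : Set G) ≤ X)
    (hLX : X ≤ Subgroup.normalizer (L : Set G)) :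
    haveI := normal_subgroupOf_of_le' hLX
    haveI := normal_subgroupOf_of_le' (hCX.trans hLX)
    brC P (incl X (avgA (L.subgroupOf X))) =
      ((Nat.card (L.subgroupOf (Subgroup.centralizer (P : Set G))) : ℂ) * (Nat.card (L.subgroupOf X) : ℂ)⁻¹) •
        avgA (L.subgroupOf (Subgroup.centralizer (P : Set G))) := by
  classical
  haveI := normal_subgroupOf_of_le' hLX
  haveI := normal_subgroupOf_of_le' (hCX.trans hLX)
  apply MonoidAlgebra.ext
  ext c
  rw [coeff_brC, coeff_incl_mem X _ (hCX c.2), coeff_avgA]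
  show _ = ((Nat.card (L.subgroupOf (Subgroup.centralizer (P : Set G))) : ℂ) * (Nat.card (L.subgroupOf X) : ℂ)⁻¹) *
    (avgA (L.subgroupOf (Subgroup.centralizer (P : Set G)))).coeff c
  rw [coeff_avgA]
  have h2 : (⟨(c : G), hCX c.2⟩ : X) ∈ L.subgroupOf X ↔ c ∈ L.subgroupOf (Subgroup.centralizer (P : Set G)) := by
    rw [Subgroup.mem_subgroupOf, Subgroup.mem_subgroupOf]
  by_cases hc : c ∈ L.subgroupOf (Subgroup.centralizer (P : Set G))
  · rw [if_pos hc, if_pos (h2.2 hc)]
    have h3 := card_ne_zero_C (L.subgroupOf (Subgroup.centralizer (P : Set G)))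
    field_simp
  · rw [if_neg hc, if_neg (fun h => hc (h2.1 h)), mul_zero]

include hM

/-- **Key lemma**: comparison of the kernels along a Brauer map. -/
theorem kern_iff (hPp : IsPGroup p P) (hCX : Subgroup.centralizer (P : Set G) ≤ X)
    (hPX : P ≤ Subgroup.normalizer (X : Set G)) {f : Set (IrrCharacter X)} (hf : IsPBlock M f)
    (hfP : PInv P (incl X (fB f))) {ξ : IrrCharacter (Subgroup.centralizer (P : Set G))}
    (hfξ : lam P (ξ : _ → ℂ) (incl X (fB f)) - 1 ∈ locI hM.isPrime) {θ : IrrCharacter X} (hθ : θ ∈ f)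
    {L : Subgroup G} (hLX : X ≤ Subgroup.normalizer (L : Set G)) (hPL : P ≤ Subgroup.normalizer (L : Set G))
    (hLp : ¬ p ∣ Nat.card L) :
    (∀ l (hl : l ∈ X), l ∈ L → (θ : X → ℂ) ⟨l, hl⟩ = (θ : X → ℂ) 1) ↔
      (∀ l (hl : l ∈ Subgroup.centralizer (P : Set G)), l ∈ L →
        (ξ : Subgroup.centralizer (P : Set G) → ℂ) ⟨l, hl⟩ = (ξ : Subgroup.centralizer (P : Set G) → ℂ) 1) := by
  classical
  have hPr := hM.isPrime
  haveI hn1 := normal_subgroupOf_of_le' hLX
  haveI hn2 := normal_subgroupOf_of_le' (hCX.trans hLX)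
  have hc1 : ¬ p ∣ Nat.card (L.subgroupOf X) := fun h => hLp (h.trans (card_subgroupOf_dvd L X))
  have hc2 : ¬ p ∣ Nat.card (L.subgroupOf (Subgroup.centralizer (P : Set G))) := fun h => hLp (h.trans (card_subgroupOf_dvd L _))
  have hyP : PInv P (incl X (avgA (L.subgroupOf X))) := by
    refine pInv_incl hPX fun c hc u hu => ?_
    rw [coeff_avgA, coeff_avgA]
    have h1 : (⟨c * (u : G) * c⁻¹, hu⟩ : X) ∈ L.subgroupOf X ↔ u ∈ L.subgroupOf X := by
      rw [Subgroup.mem_subgroupOf, Subgroup.mem_subgroupOf]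
      exact (Subgroup.mem_normalizer_iff.1 (hPL hc) u).symm
    by_cases hu' : u ∈ L.subgroupOf X
    · rw [if_pos hu', if_pos (h1.2 hu')]
    · rw [if_neg hu', if_neg (fun h => hu' (h1.1 h))]
  have hkey := lam_incl_cong hM hCX hPX hPp ξ.2 hf hfP hfξ hθ (isCent_avgA (L.subgroupOf X))
    (sval_avgA (L.subgroupOf X) hM hc1) hyP
  have hbr := brC_incl_avgA (P := P) (X := X) (L := L) hCX hLX
  have hlam : lam P (ξ : _ → ℂ) (incl X (avgA (L.subgroupOf X))) =
      ((Nat.card (L.subgroupOf (Subgroup.centralizer (P : Set G))) : ℂ) * (Nat.card (L.subgroupOf X) : ℂ)⁻¹) *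
        om (ξ : _ → ℂ) (avgA (L.subgroupOf (Subgroup.centralizer (P : Set G)))) := by
    rw [lam, hbr, om_smul]
  rw [hlam] at hkey
  have hrne : ((Nat.card (L.subgroupOf (Subgroup.centralizer (P : Set G))) : ℂ) * (Nat.card (L.subgroupOf X) : ℂ)⁻¹) ∉ locI hPr := by
    intro h
    have h5 : (Nat.card (L.subgroupOf (Subgroup.centralizer (P : Set G))) : ℂ) ∈ locI hPr := by
      have h6 := locI_mul_right hPr (natCast_mem (locR hPr) (Nat.card (L.subgroupOf X))) h
      have h7 : ((Nat.card (L.subgroupOf (Subgroup.centralizer (P : Set G))) : ℂ) * (Nat.card (L.subgroupOf X) : ℂ)⁻¹) *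
          (Nat.card (L.subgroupOf X) : ℂ) = (Nat.card (L.subgroupOf (Subgroup.centralizer (P : Set G))) : ℂ) := by
        have := card_ne_zero_C (L.subgroupOf X)
        field_simp
      rwa [h7] at h6
    exact hc2 ((natCast_mem_locI_iff hM _).1 h5)
  have hA : (∀ l (hl : l ∈ X), l ∈ L → (θ : X → ℂ) ⟨l, hl⟩ = (θ : X → ℂ) 1) ↔
      ∀ n ∈ L.subgroupOf X, (θ : X → ℂ) n = (θ : X → ℂ) 1 := by
    constructor
    · intro h n hn
      exact h n n.2 hn
    · intro h l hl hlL
      exact h ⟨l, hl⟩ hlL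
  have hB : (∀ l (hl : l ∈ Subgroup.centralizer (P : Set G)), l ∈ L →
        (ξ : Subgroup.centralizer (P : Set G) → ℂ) ⟨l, hl⟩ = (ξ : Subgroup.centralizer (P : Set G) → ℂ) 1) ↔
      ∀ n ∈ L.subgroupOf (Subgroup.centralizer (P : Set G)),
        (ξ : Subgroup.centralizer (P : Set G) → ℂ) n = (ξ : Subgroup.centralizer (P : Set G) → ℂ) 1 := by
    constructor
    · intro h n hn
      exact h n n.2 hn
    · intro h l hl hlL
      exact h ⟨l, hl⟩ hlL
  rw [hA, hB]
  rcases om_avgA_cases (L.subgroupOf X) θ with ⟨h1, h1'⟩ | ⟨h1, h1'⟩ <;>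
    rcases om_avgA_cases (L.subgroupOf (Subgroup.centralizer (P : Set G))) ξ with ⟨h2, h2'⟩ | ⟨h2, h2'⟩
  · exact iff_of_true h1' h2'
  · exfalso
    rw [h1, h2, mul_zero, zero_sub] at hkey
    apply one_notMem_locI hPr
    have := (locI hPr).neg_mem hkey
    simpa using this
  · exfalso
    rw [h1, h2, mul_one, sub_zero] at hkey
    exact hrne hkey
  · exact iff_of_false h1' h2'

end Core

section Pi

variable {G : Type u} [Group G] [Fintype G]

/-- The `π`-core of a subgroup, seen in `G`. -/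
noncomputable def piL (π : Set ℕ) (X : Subgroup G) : Subgroup G := (piCore π X).map X.subtype

theorem mem_piL {π : Set ℕ} {X : Subgroup G} {l : G} (hl : l ∈ X) : l ∈ piL π X ↔ (⟨l, hl⟩ : X) ∈ piCore π X := by
  constructor
  · rintro ⟨c, hc, rfl⟩
    exact hc
  · intro h
    exact ⟨⟨l, hl⟩, h, rfl⟩

theorem card_piL (π : Set ℕ) (X : Subgroup G) : Nat.card (piL π X) = Nat.card (piCore π X) :=
  Subgroup.card_map_of_injective X.subtype_injective

theorem piL_primes {π : Set ℕ} {X : Subgroup G} {q : ℕ} (hq : q.Prime) (h : q ∣ Nat.card (piL π X)) : q ∈ π := by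
  rw [card_piL] at h
  exact piCore_primes π q hq h

theorem normalizer_le_piL (π : Set ℕ) (X : Subgroup G) :
    Subgroup.normalizer (X : Set G) ≤ Subgroup.normalizer (piL π X : Set G) := by
  intro k hk
  rw [Subgroup.mem_normalizer_iff]
  intro y
  constructor
  · intro hy
    exact map_piCore_subgroup_normalized π hk hy
  · intro hy
    have h1 := map_piCore_subgroup_normalized π ((Subgroup.normalizer (X : Set G)).inv_mem hk) hy
    have h2 : k⁻¹ * (k * y * k⁻¹) * k⁻¹⁻¹ = y := by group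
    rwa [h2] at h1

theorem le_normalizer_piL (π : Set ℕ) (X : Subgroup G) : X ≤ Subgroup.normalizer (piL π X : Set G) :=
  Subgroup.le_normalizer.trans (normalizer_le_piL π X)

/-- A normal `π`-subgroup inside any subgroup it is normalized by. -/
theorem le_piL_of {π : Set ℕ} {L Y : Subgroup G} (hY : Y ≤ Subgroup.normalizer (L : Set G))
    (hL : ∀ q : ℕ, q.Prime → q ∣ Nat.card L → q ∈ π) {l : G} (hlY : l ∈ Y) (hlL : l ∈ L) :
    (⟨l, hlY⟩ : Y) ∈ piCore π Y := by
  refine le_piCore_of_normal π (L.subgroupOf Y) (normal_subgroupOf_of_le' hY) (fun q hq hd => ?_)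
    (Subgroup.mem_subgroupOf.2 hlL)
  exact hL q hq (hd.trans (card_subgroupOf_dvd L Y))

theorem primes_of_mem_piCore {π : Set ℕ} {Y : Subgroup G} {c : Y} (hc : c ∈ piCore π Y) {q : ℕ} (hq : q.Prime)
    (hd : q ∣ orderOf c) : q ∈ π :=
  piCore_primes π q hq (hd.trans (Subgroup.orderOf_dvd_natCard _ hc))

end Pi

section Chain

variable {G : Type u} [Group G] [Fintype G] {p : ℕ} [hp : Fact p.Prime] {M : Ideal AlgInt} (hM : IsPModular p M)

attribute [local instance] centFintype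

/-- `O_π(C(Q))` is in the kernel of the block of a pair. -/
def KerP (π : Set ℕ) (a : BrauerPairIdx G) : Prop :=
  ∀ ξ ∈ a.2, ∀ c : Subgroup.centralizer (a.1 : Set G), c ∈ piCore π (Subgroup.centralizer (a.1 : Set G)) →
    (ξ : Subgroup.centralizer (a.1 : Set G) → ℂ) c = (ξ : Subgroup.centralizer (a.1 : Set G) → ℂ) 1

/-- `O_π(C(Q))` contains all the `π`-elements of `C(Q)`. -/
def HallP (π : Set ℕ) (a : BrauerPairIdx G) : Prop :=
  ∀ c : Subgroup.centralizer (a.1 : Set G), (∀ q : ℕ, q.Prime → q ∣ orderOf c → q ∈ π) →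
    c ∈ piCore π (Subgroup.centralizer (a.1 : Set G))

variable {π : Set ℕ} (hpπ : p ∉ π)

include hM hpπ

theorem not_dvd_piL (X : Subgroup G) : ¬ p ∣ Nat.card (piL π X) := fun h => hpπ (piL_primes hp.out h)

/-- Going down a normal inclusion. -/
theorem kerP_down_step {a b : BrauerPairIdx G} (h : NormalSubpairRel p M a b) (hb : KerP π b) : KerP π a := by
  classical
  obtain ⟨Q, f⟩ := a
  obtain ⟨R, g⟩ := b
  have hPr := hM.isPrime
  obtain ⟨hf, he, hQP, hPN, hst, hall⟩ := (isNormal_iff hPr).1 h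
  have hPX := le_normalizer_centralizer hPN
  have hCX := centralizer_anti hQP
  obtain ⟨ξ, hξ⟩ := IsPBlock.nonempty hPr he.2
  unfold KerP
  intro θ hθ c hc
  simp only at θ hθ c hc ⊢
  have hk := kern_iff hM he.1 hCX hPX hf.2 (pInv_incl_fB _ hPX ((stable_iff_stabilizes _ hPX f).2 hst)) (hall ξ hξ)
    (L := piL π (Subgroup.centralizer (Q : Set G))) hθ (le_normalizer_piL π _) (hPX.trans (normalizer_le_piL π _))
    (not_dvd_piL hM hpπ _)
  refine hk.2 (fun l hl hlL => ?_) c c.2 ((mem_piL c.2).2 hc)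
  refine hb ξ hξ ⟨l, hl⟩ ?_
  exact le_piL_of (hCX.trans (le_normalizer_piL π _)) (fun q hq hd => piL_primes hq hd) hl hlL

theorem kerP_down {a b : BrauerPairIdx G} (h : Relation.ReflTransGen (NormalSubpairRel p M) a b) (hb : KerP π b) :
    KerP π a := by
  induction h using Relation.ReflTransGen.head_induction_on with
  | refl => exact hb
  | head h1 _ ih => exact kerP_down_step hM hpπ h1 ih

/-- Going up a normal inclusion. -/
theorem kerP_up_step {a b : BrauerPairIdx G} (h : NormalSubpairRel p M a b) (ha : KerP π a) (haH : HallP π a) :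
    KerP π b ∧ HallP π b := by
  classical
  obtain ⟨Q, f⟩ := a
  obtain ⟨R, g⟩ := b
  have hPr := hM.isPrime
  obtain ⟨hf, he, hQP, hPN, hst, hall⟩ := (isNormal_iff hPr).1 h
  have hPX := le_normalizer_centralizer hPN
  have hCX := centralizer_anti hQP
  obtain ⟨θ, hθ⟩ := IsPBlock.nonempty hPr hf.2
  have hmem : ∀ c : Subgroup.centralizer (R : Set G), (∀ q : ℕ, q.Prime → q ∣ orderOf c → q ∈ π) →
      (c : G) ∈ piL π (Subgroup.centralizer (Q : Set G)) := by
    intro c hc
    refine (mem_piL (hCX c.2)).2 (haH ⟨c, hCX c.2⟩ fun q hq hd => hc q hq ?_)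
    rw [Subgroup.orderOf_mk] at hd
    rwa [Subgroup.orderOf_coe] at hd
  constructor
  · unfold KerP
    intro ξ hξ c hc
    simp only at ξ hξ c hc ⊢
    have hk := kern_iff hM he.1 hCX hPX hf.2 (pInv_incl_fB _ hPX ((stable_iff_stabilizes _ hPX f).2 hst)) (hall ξ hξ)
      (L := piL π (Subgroup.centralizer (Q : Set G))) hθ (le_normalizer_piL π _) (hPX.trans (normalizer_le_piL π _))
      (not_dvd_piL hM hpπ _)
    refine hk.1 (fun l hl hlL => ?_) c c.2 (hmem c fun q hq hd => primes_of_mem_piCore hc hq hd)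
    exact ha θ hθ ⟨l, hl⟩ ((mem_piL hl).1 hlL)
  · unfold HallP
    intro c hc
    simp only at c hc ⊢
    exact le_piL_of (hCX.trans (le_normalizer_piL π _)) (fun q hq hd => piL_primes hq hd) c.2 (hmem c hc)

theorem kerP_up {a b : BrauerPairIdx G} (h : Relation.ReflTransGen (NormalSubpairRel p M) a b) (ha : KerP π a)
    (haH : HallP π a) : KerP π b ∧ HallP π b := by
  induction h with
  | refl => exact ⟨ha, haH⟩
  | tail _ h2 ih => exact kerP_up_step hM hpπ h2 ih.1 ih.2

end Chain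

section Transport

variable {H K : Type u} [Group H] [Group K] [Finite H] [Finite K]

theorem ker_setT {π : Set ℕ} (φ : H ≃* K) {f : Set (IrrCharacter H)}
    (h : ∀ ξ ∈ f, ∀ c ∈ piCore π H, (ξ : H → ℂ) c = (ξ : H → ℂ) 1) :
    ∀ ξ ∈ setT φ f, ∀ c ∈ piCore π K, (ξ : K → ℂ) c = (ξ : K → ℂ) 1 := by
  intro ξ hξ c hc
  have h1 := h _ hξ (φ.symm c) (piCore_map_equiv_le π φ.symm ⟨c, hc, rfl⟩)
  rw [irrT_symm_apply, irrT_symm_apply, MulEquiv.apply_symm_apply, map_one] at h1
  exact h1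

theorem hall_transport {π : Set ℕ} (φ : H ≃* K)
    (h : ∀ c : H, (∀ q : ℕ, q.Prime → q ∣ orderOf c → q ∈ π) → c ∈ piCore π H) :
    ∀ c : K, (∀ q : ℕ, q.Prime → q ∣ orderOf c → q ∈ π) → c ∈ piCore π K := by
  intro c hc
  have h1 := h (φ.symm c) (fun q hq hd => hc q hq (by rwa [MulEquiv.orderOf_eq] at hd))
  have h2 := piCore_map_equiv_le π φ ⟨φ.symm c, h1, rfl⟩
  simpa using h2

end Transport

end CfsgLib.Block

namespace CfsgLib.Block

open Cfsg CfsgLib.Char CfsgLib.FGS
open scoped ComplexConjugate Pointwise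

universe u

section Exist

variable {G : Type u} [Group G] [Fintype G] {p : ℕ} [hp : Fact p.Prime] {M : Ideal AlgInt} (hM : IsPModular p M)
  {P X : Subgroup G} [Fintype X]

attribute [local instance] centFintype

include hM

theorem exists_lam_of_coeff (hPp : IsPGroup p P) (hCX : Subgroup.centralizer (P : Set G) ≤ X) {f : Set (IrrCharacter X)}
    (hf : IsPBlock M f) (hfP : PInv P (incl X (fB f))) {c : G} (hc : c ∈ Subgroup.centralizer (P : Set G))
    (hne : blockCoeff f ⟨c, hCX hc⟩ ∉ locI hM.isPrime) :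
    ∃ ξ : IrrCharacter (Subgroup.centralizer (P : Set G)),
      lam P (ξ : Subgroup.centralizer (P : Set G) → ℂ) (incl X (fB f)) - 1 ∈ locI hM.isPrime := by
  classical
  have hPr := hM.isPrime
  have hwC : PInv (Subgroup.centralizer (P : Set G)) (incl X (fB f)) := pInv_of_cent hCX (isCent_fB f)
  have hws : SVal hPr (incl X (fB f)) := sval_incl _ hPr (sval_fB hM hf)
  have hzc := isCent_brC hwC
  have hzs := sval_brC (P := P) hM hws
  have hww : incl X (fB f) * incl X (fB f) = incl X (fB f) := by rw [← incl_mul, fB_mul_self]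
  have hz : CDiv hM 1 (brC P (incl X (fB f)) - brC P (incl X (fB f)) * brC P (incl X (fB f))) := by
    have := brC_mul_cdiv hM hPp hws hws hfP hfP
    rwa [hww] at this
  by_contra hcon
  push Not at hcon
  have h0c : IsCent ((0 : ℂ) • (1 : GA (Subgroup.centralizer (P : Set G)))) := isCent_one.smul 0
  have h0s : SVal hPr ((0 : ℂ) • (1 : GA (Subgroup.centralizer (P : Set G)))) := SVal.smul hPr (zero_mem _) (sval_one hPr)
  have hom : ∀ ξ : IrrCharacter (Subgroup.centralizer (P : Set G)),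
      om (ξ : Subgroup.centralizer (P : Set G) → ℂ) (brC P (incl X (fB f))) -
        om (ξ : Subgroup.centralizer (P : Set G) → ℂ) ((0 : ℂ) • (1 : GA (Subgroup.centralizer (P : Set G)))) ∈ locI hPr := by
    intro ξ
    have h1 := lam_mul_sub_mem hM hPp ξ.2 hws hws hfP hfP hwC hwC
    rw [hww] at h1
    have hm : lam P (ξ : Subgroup.centralizer (P : Set G) → ℂ) (incl X (fB f)) ∈ locR hPr := lam_mem hM ξ.2 hwC hws
    have h2 : lam P (ξ : Subgroup.centralizer (P : Set G) → ℂ) (incl X (fB f)) *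
        (1 - lam P (ξ : Subgroup.centralizer (P : Set G) → ℂ) (incl X (fB f))) ∈ locI hPr := by
      convert h1 using 1
      ring
    rw [om_smul, zero_mul, sub_zero]
    rcases locI_prime hPr hm (sub_mem (one_mem _) hm) h2 with h3 | h3
    · exact h3
    · exfalso
      apply hcon ξ
      have := (locI hPr).neg_mem h3
      convert this using 1
      ring
  have h := cdiv_of_idem_cong hM hzc h0c hzs h0s hz (by simp) hom
  have h2 := DivBy.mem_locI hM (n := 0) (h ⟨c, hc⟩)
  rw [coeff_sub', coeff_brC] at h2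
  have h3 : ((0 : ℂ) • (1 : GA (Subgroup.centralizer (P : Set G)))).coeff ⟨c, hc⟩ = 0 := by simp
  rw [h3, sub_zero, coeff_incl_mem X _ (hCX hc), coeff_fB] at h2
  exact hne h2

theorem exists_pair_of_coeff (hPp : IsPGroup p P) (hCX : Subgroup.centralizer (P : Set G) ≤ X)
    (hPX : P ≤ Subgroup.normalizer (X : Set G)) {f : Set (IrrCharacter X)} {B : Set (IrrCharacter G)}
    (hind : IsInducedBlock M X f B) (hfP : PInv P (incl X (fB f))) {c : G} (hc : c ∈ Subgroup.centralizer (P : Set G))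
    (hne : blockCoeff f ⟨c, hCX hc⟩ ∉ locI hM.isPrime) :
    ∃ e : Set (IrrCharacter (Subgroup.centralizer (P : Set G))), IsBrauerPairOf p M B P e ∧
      ∀ ξ ∈ e, lam P (ξ : Subgroup.centralizer (P : Set G) → ℂ) (incl X (fB f)) - 1 ∈ locI hM.isPrime := by
  classical
  have hPr := hM.isPrime
  have hf := hind.1
  obtain ⟨ξ₀, h₀⟩ := exists_lam_of_coeff hM hPp hCX hf hfP hc hne
  have hwC : PInv (Subgroup.centralizer (P : Set G)) (incl X (fB f)) := pInv_of_cent hCX (isCent_fB f)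
  have hws : SVal hPr (incl X (fB f)) := sval_incl _ hPr (sval_fB hM hf)
  have he : IsPBlock M (blockOf M (ξ₀ : Subgroup.centralizer (P : Set G) → ℂ)) := ⟨ξ₀, rfl⟩
  have hlam : ∀ ξ ∈ blockOf M (ξ₀ : Subgroup.centralizer (P : Set G) → ℂ),
      lam P (ξ : Subgroup.centralizer (P : Set G) → ℂ) (incl X (fB f)) - 1 ∈ locI hPr := by
    intro ξ hξ
    have h1 := lam_sub_of_sameBlock hM he hξ (self_mem_blockOf hPr ξ₀) hwC hws
    have h2 := (locI hPr).add_mem h1 h₀
    convert h2 using 1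
    ring
  obtain ⟨B', hB', -⟩ := existsUnique_block_of_pair hM (P := P) (e := blockOf M (ξ₀ : Subgroup.centralizer (P : Set G) → ℂ)) ⟨hPp, he⟩
  have h3 := isInduced_of_lam hM hPp hCX hPX hB' hf hfP hlam
  have h4 := induced_unique hM hind h3
  subst h4
  exact ⟨_, hB', hlam⟩

omit hM in
theorem coeff_of_defect {f : Set (IrrCharacter X)} {D' : Subgroup X} (hD : IsDefectGroup p M f D')
    (hPD : P ≤ D'.map X.subtype) (hPr : M.IsPrime) :
    ∃ c : X, (c : G) ∈ Subgroup.centralizer (P : Set G) ∧ blockCoeff f c ∉ locI hPr := by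
  obtain ⟨g, hg, S, rfl⟩ := hD
  refine ⟨g, ?_, hg.2.1⟩
  rw [Subgroup.mem_centralizer_iff]
  intro d hd
  obtain ⟨t, ht, rfl⟩ := hPD hd
  obtain ⟨s, hs, rfl⟩ := ht
  have h1 := s.2
  rw [Subgroup.mem_centralizer_singleton_iff] at h1
  have h2 := congrArg (Subtype.val) h1
  exact h2

omit hM in
theorem isPGroup_of_defect {H : Type u} [Group H] [Fintype H] {f : Set (IrrCharacter H)} {D : Subgroup H}
    (hD : IsDefectGroup p M f D) : IsPGroup p D := by
  obtain ⟨g, hg, S, rfl⟩ := hD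
  exact S.isPGroup'.map _

theorem isMaximal_of_defect {B : Set (IrrCharacter G)} {e : Set (IrrCharacter (Subgroup.centralizer (P : Set G)))}
    (hpair : IsBrauerPairOf p M B P e) (hD : IsDefectGroup p M B P) : IsMaximalBrauerPair p M B P e := by
  classical
  have hB := hpair.2.1
  refine ⟨hpair, fun R g hRg hle => ?_⟩
  obtain ⟨R', g', hle', hmax⟩ := exists_maximal_above hM R g hRg
  have hdefR := isDefectGroup_of_maximal hM hmax
  have hcard := card_defectGroup hM hB hdefR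
  have hcard2 := card_defectGroup hM hB hD
  have hR : P ≤ R := chain_le hle
  have hR' : R ≤ R' := chain_le hle'
  have h3 : P = R' := Subgroup.eq_of_le_of_card_ge (hR.trans hR') (by rw [hcard, hcard2])
  exact le_antisymm (by rw [h3]; exact hR') hR

end Exist

section Conj

variable {G : Type u} [Group G] [Fintype G]

attribute [local instance] centFintype

theorem kerP_of_cp {π : Set ℕ} {x : G} {a : BrauerPairIdx G} (h : KerP π (cp x a)) : KerP π a := by
  obtain ⟨Q, f⟩ := a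
  have h1 : ∀ ξ ∈ setT (conjCent Q x) f, ∀ c ∈ piCore π (Subgroup.centralizer ((cs Q x : Subgroup G) : Set G)),
      (ξ : Subgroup.centralizer ((cs Q x : Subgroup G) : Set G) → ℂ) c = (ξ : Subgroup.centralizer ((cs Q x : Subgroup G) : Set G) → ℂ) 1 := by
    intro ξ hξ c hc
    refine h ξ ?_ c hc
    show ξ ∈ conjBlock Q x f
    rw [conjBlock_eq]
    exact hξ
  have h2 := ker_setT (conjCent Q x).symm h1
  rw [setT_symm_setT] at h2
  exact h2

theorem kerP_cp {π : Set ℕ} (x : G) {a : BrauerPairIdx G} (h : KerP π a) : KerP π (cp x a) := by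
  obtain ⟨Q, f⟩ := a
  have h2 := ker_setT (conjCent Q x) h
  intro ξ hξ c hc
  refine h2 ξ ?_ c hc
  have : ξ ∈ conjBlock Q x f := hξ
  rwa [conjBlock_eq] at this

theorem hallP_cp {π : Set ℕ} (x : G) {a : BrauerPairIdx G} (h : HallP π a) : HallP π (cp x a) := by
  obtain ⟨Q, f⟩ := a
  exact hall_transport (conjCent Q x) h

end Conj

/-- The complement of a set of primes. -/
abbrev notPi (π : Set ℕ) : Set ℕ := {q : ℕ | q ∉ π}

section Main

variable {G : Type u} [Group G] [Fintype G] {p : ℕ} [hp : Fact p.Prime] {M : Ideal AlgInt} (hM : IsPModular p M)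

attribute [local instance] centFintype

variable {π : Set ℕ} (hpπ : p ∈ π)


include hM hpπ

/-- The top of the chain. -/
theorem exists_top {B : Set (IrrCharacter G)} (hB : IsPBlock M B) {D : Subgroup G} (hBD : IsDefectGroup p M B D)
    {B₁ : Set (IrrCharacter (Subgroup.normalizer (D : Set G)))} (hB₁ : IsInducedBlock M (Subgroup.normalizer (D : Set G)) B₁ B)
    (hB₁D : IsDefectGroup p M B₁ (D.subgroupOf (Subgroup.normalizer (D : Set G)))) :
    letI : Fintype (Subgroup.normalizer (D : Set G)) := Fintype.ofFinite _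
    ∃ e : Set (IrrCharacter (Subgroup.centralizer (D : Set G))), IsMaximalBrauerPair p M B D e ∧
      ∀ ξ ∈ e, lam D (ξ : Subgroup.centralizer (D : Set G) → ℂ)
        (incl (Subgroup.normalizer (D : Set G)) (fB B₁)) - 1 ∈ locI hM.isPrime := by
  classical
  letI : Fintype (Subgroup.normalizer (D : Set G)) := Fintype.ofFinite _
  have hDp : IsPGroup p D := isPGroup_of_defect hBD
  have hCX : Subgroup.centralizer (D : Set G) ≤ Subgroup.normalizer (D : Set G) := Subgroup.centralizer_le_normalizer _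
  have hDN : D ≤ Subgroup.normalizer (D : Set G) := Subgroup.le_normalizer
  have hPX : D ≤ Subgroup.normalizer ((Subgroup.normalizer (D : Set G) : Subgroup G) : Set G) :=
    hDN.trans Subgroup.le_normalizer
  have hPD : D ≤ (D.subgroupOf (Subgroup.normalizer (D : Set G))).map (Subgroup.normalizer (D : Set G)).subtype := by
    rw [Subgroup.subgroupOf_map_subtype]
    exact le_inf le_rfl hDN
  obtain ⟨c, hc, hne⟩ := coeff_of_defect (P := D) hB₁D hPD hM.isPrime
  obtain ⟨e, he, hlam⟩ := exists_pair_of_coeff hM hDp hCX hPX hB₁ (pInv_of_cent hDN (isCent_fB B₁)) hc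
    (by simpa using hne)
  exact ⟨e, isMaximal_of_defect hM he hBD, hlam⟩

theorem not_mem_pi' : p ∉ (notPi π) := fun h => h hpπ

/-- The Brauer-correspondent hypothesis gives the kernel property at the top. -/
theorem kerP_top {D : Subgroup G} (hDp : IsPGroup p D)
    {B₁ : Set (IrrCharacter (Subgroup.normalizer (D : Set G)))} (hB₁ : IsPBlock M B₁)
    (hker : ∀ n : Subgroup.normalizer (D : Set G), n ∈ piCore (notPi π) (Subgroup.normalizer (D : Set G)) → n ∈ blockKer B₁)
    {e : Set (IrrCharacter (Subgroup.centralizer (D : Set G)))} (he : IsPBlock M e)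
    (hlam : letI : Fintype (Subgroup.normalizer (D : Set G)) := Fintype.ofFinite _
      ∀ ξ ∈ e, lam D (ξ : Subgroup.centralizer (D : Set G) → ℂ)
        (incl (Subgroup.normalizer (D : Set G)) (fB B₁)) - 1 ∈ locI hM.isPrime) :
    KerP (notPi π) ⟨D, e⟩ := by
  classical
  letI : Fintype (Subgroup.normalizer (D : Set G)) := Fintype.ofFinite _
  have hPr := hM.isPrime
  have hCX : Subgroup.centralizer (D : Set G) ≤ Subgroup.normalizer (D : Set G) := Subgroup.centralizer_le_normalizer _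
  have hDN : D ≤ Subgroup.normalizer (D : Set G) := Subgroup.le_normalizer
  have hPX : D ≤ Subgroup.normalizer ((Subgroup.normalizer (D : Set G) : Subgroup G) : Set G) :=
    hDN.trans Subgroup.le_normalizer
  obtain ⟨θ, hθ⟩ := IsPBlock.nonempty hPr hB₁
  unfold KerP
  intro ξ hξ c hc
  simp only at ξ hξ c hc ⊢
  have hk := kern_iff hM hDp hCX hPX hB₁ (pInv_of_cent hDN (isCent_fB B₁)) (hlam ξ hξ)
    (L := piL (notPi π) (Subgroup.normalizer (D : Set G))) hθ (le_normalizer_piL (notPi π) _)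
    (hPX.trans (normalizer_le_piL (notPi π) _)) (not_dvd_piL hM (not_mem_pi' hM hpπ) _)
  have h1 := hk.1 (fun l hl hlL => hker ⟨l, hl⟩ ((mem_piL hl).1 hlL) θ hθ)
  refine h1 c c.2 ((mem_piL (hCX c.2)).2 ?_)
  have hN : Subgroup.normalizer (D : Set G) ≤
      Subgroup.normalizer (piL (notPi π) (Subgroup.centralizer (D : Set G)) : Set G) :=
    (le_normalizer_centralizer le_rfl).trans (normalizer_le_piL (notPi π) _)
  exact le_piL_of hN (fun q hq hd => piL_primes hq hd) (hCX c.2) ((mem_piL c.2).2 hc)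

/-- **S4734** -/
theorem s4734 {B : Set (IrrCharacter G)} (hB : IsPBlock M B) {D : Subgroup G} (hBD : IsDefectGroup p M B D)
    {B₁ : Set (IrrCharacter (Subgroup.normalizer (D : Set G)))} (hB₁ : IsInducedBlock M (Subgroup.normalizer (D : Set G)) B₁ B)
    (hB₁D : IsDefectGroup p M B₁ (D.subgroupOf (Subgroup.normalizer (D : Set G))))
    (hker : ∀ n : Subgroup.normalizer (D : Set G), n ∈ piCore (notPi π) (Subgroup.normalizer (D : Set G)) → n ∈ blockKer B₁)
    {G₀ : Subgroup G} {B₀ : Set (IrrCharacter G₀)} (hB₀ : IsInducedBlock M G₀ B₀ B) {D₀ : Subgroup G₀}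
    (hD₀ : IsDefectGroup p M B₀ D₀)
    (hC : Subgroup.centralizer ((D₀.map G₀.subtype : Subgroup G) : Set G) ≤ G₀) :
    ∀ x : G₀, x ∈ piCore (notPi π) G₀ → x ∈ blockKer B₀ := by
  classical
  letI : Fintype G₀ := Fintype.ofFinite _
  have hPr := hM.isPrime
  have hDp : IsPGroup p D := isPGroup_of_defect hBD
  have hp' : p ∉ notPi π := not_mem_pi' hM hpπ
  obtain ⟨e, hmax, hlam⟩ := exists_top hM hpπ hB hBD hB₁ hB₁D
  have htop : KerP (notPi π) ⟨D, e⟩ := kerP_top hM hpπ hDp hB₁.1 hker hmax.1.1.2 hlam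
  have hPp : IsPGroup p (D₀.map G₀.subtype : Subgroup G) := (isPGroup_of_defect hD₀).map _
  have hDG : (D₀.map G₀.subtype : Subgroup G) ≤ G₀ := Subgroup.map_subtype_le _
  have hPX : (D₀.map G₀.subtype : Subgroup G) ≤ Subgroup.normalizer ((G₀ : Subgroup G) : Set G) :=
    hDG.trans Subgroup.le_normalizer
  obtain ⟨c, hc, hne⟩ := coeff_of_defect (P := (D₀.map G₀.subtype : Subgroup G)) hD₀ le_rfl hPr
  obtain ⟨e₀, he₀, hlam₀⟩ := exists_pair_of_coeff hM hPp hC hPX hB₀ (pInv_of_cent hDG (isCent_fB B₀)) hc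
    (by simpa using hne)
  obtain ⟨y, hy⟩ := exists_conj_below hM hmax he₀
  have hk0 : KerP (notPi π) (cp y ⟨(D₀.map G₀.subtype : Subgroup G), e₀⟩) := kerP_down hM hp' hy htop
  have hk1 : KerP (notPi π) ⟨(D₀.map G₀.subtype : Subgroup G), e₀⟩ := kerP_of_cp hk0
  intro x hx θ hθ
  obtain ⟨ξ₀, hξ₀⟩ := IsPBlock.nonempty hPr he₀.1.2
  have hk := kern_iff hM hPp hC hPX hB₀.1 (pInv_of_cent hDG (isCent_fB B₀)) (hlam₀ ξ₀ hξ₀)
    (L := piL (notPi π) G₀) hθ (le_normalizer_piL (notPi π) _) (hPX.trans (normalizer_le_piL (notPi π) _)) (not_dvd_piL hM hp' _)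
  refine hk.2 (fun l hl hlL => ?_) x x.2 ((mem_piL x.2).2 hx)
  refine hk1 ξ₀ hξ₀ ⟨l, hl⟩ ?_
  exact le_piL_of (hC.trans (le_normalizer_piL (notPi π) _)) (fun q hq hd => piL_primes hq hd) hl hlL


omit hM hpπ in
theorem mem_cent_of_regular {D₀ : Subgroup G} (hD₀ : IsPGroup p D₀) {g : G}
    (hg : g ∈ D₀ ⊔ Subgroup.centralizer (D₀ : Set G)) (hreg : ¬ p ∣ orderOf g) :
    g ∈ Subgroup.centralizer (D₀ : Set G) := by
  classical
  have hcn : ∀ d ∈ D₀, ∀ c ∈ Subgroup.centralizer (D₀ : Set G), d⁻¹ * c * d ∈ Subgroup.centralizer (D₀ : Set G) := by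
    intro d hd c hc
    have h1 := (le_normalizer_centralizer (P := D₀) (Q := D₀) Subgroup.le_normalizer) (D₀.inv_mem hd)
    have h2 := (Subgroup.mem_normalizer_iff.1 h1 c).1 hc
    simpa using h2
  have hcn' : ∀ d ∈ D₀, ∀ c ∈ Subgroup.centralizer (D₀ : Set G), d * c * d⁻¹ ∈ Subgroup.centralizer (D₀ : Set G) := by
    intro d hd c hc
    have h2 := hcn d⁻¹ (D₀.inv_mem hd) c hc
    simpa using h2
  let K : Subgroup G :=
    { carrier := {g | ∃ d ∈ D₀, ∃ c ∈ Subgroup.centralizer (D₀ : Set G), g = d * c}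
      mul_mem' := by
        rintro _ _ ⟨d₁, hd₁, c₁, hc₁, rfl⟩ ⟨d₂, hd₂, c₂, hc₂, rfl⟩
        refine ⟨d₁ * d₂, D₀.mul_mem hd₁ hd₂, d₂⁻¹ * c₁ * d₂ * c₂,
          (Subgroup.centralizer (D₀ : Set G)).mul_mem (hcn d₂ hd₂ c₁ hc₁) hc₂, ?_⟩
        group
      one_mem' := ⟨1, D₀.one_mem, 1, Subgroup.one_mem _, by simp⟩
      inv_mem' := by
        rintro _ ⟨d, hd, c, hc, rfl⟩
        refine ⟨d⁻¹, D₀.inv_mem hd, d * c⁻¹ * d⁻¹, hcn' d hd _ (Subgroup.inv_mem _ hc), ?_⟩
        group }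
  have hK : D₀ ⊔ Subgroup.centralizer (D₀ : Set G) ≤ K := by
    refine sup_le (fun d hd => ⟨d, hd, 1, Subgroup.one_mem _, by simp⟩) (fun c hc => ⟨1, D₀.one_mem, c, hc, by simp⟩)
  obtain ⟨d, hd, c, hc, rfl⟩ := hK hg
  obtain ⟨k, hk⟩ := hD₀ ⟨d, hd⟩
  have hk' : d ^ (p ^ k) = 1 := by
    have := congrArg Subtype.val hk
    simpa using this
  have hpow : ∀ m : ℕ, ∃ c' ∈ Subgroup.centralizer (D₀ : Set G), (d * c) ^ m = d ^ m * c' := by
    intro m
    induction m with
    | zero => exact ⟨1, Subgroup.one_mem _, by simp⟩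
    | succ m ih =>
      obtain ⟨c', hc', h⟩ := ih
      refine ⟨d⁻¹ * c' * d * c, (Subgroup.centralizer (D₀ : Set G)).mul_mem (hcn d hd c' hc') hc, ?_⟩
      rw [pow_succ, h, pow_succ]
      group
  obtain ⟨c', hc', h⟩ := hpow (p ^ k)
  rw [hk', one_mul] at h
  have hcop : (p ^ k).Coprime (orderOf (d * c)) :=
    Nat.Coprime.pow_left k ((Nat.Prime.coprime_iff_not_dvd hp.out).2 hreg)
  obtain ⟨m, hm⟩ := exists_pow_eq_self_of_coprime hcop
  rw [← hm, h]
  exact Subgroup.pow_mem _ hc' m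

/-- **S4728** -/
theorem s4728 {B : Set (IrrCharacter G)} (hB : IsPBlock M B) {D : Subgroup G} (hBD : IsDefectGroup p M B D)
    {B₁ : Set (IrrCharacter (Subgroup.normalizer (D : Set G)))} (hB₁ : IsInducedBlock M (Subgroup.normalizer (D : Set G)) B₁ B)
    (hB₁D : IsDefectGroup p M B₁ (D.subgroupOf (Subgroup.normalizer (D : Set G))))
    {D₀ : Subgroup G} (hD₀ : IsPGroup p D₀) {H₀ : Subgroup G} (hH₀ : H₀ = D₀ ⊔ Subgroup.centralizer (D₀ : Set G))
    {b : Set (IrrCharacter H₀)} (hb : IsInducedBlock M H₀ b B)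
    (hcompl : ∀ x : Subgroup.centralizer (D₀ : Set G), (∀ q : ℕ, q.Prime → q ∣ orderOf x → q ∉ π) →
      x ∈ piCore (notPi π) (Subgroup.centralizer (D₀ : Set G)))
    (hkerb : ∀ x : Subgroup.centralizer (D₀ : Set G), x ∈ piCore (notPi π) (Subgroup.centralizer (D₀ : Set G)) →
      ∀ θ ∈ b, ∀ h : H₀, (h : G) = (x : G) → (θ : H₀ → ℂ) h = (θ : H₀ → ℂ) 1) :
    ∀ n : Subgroup.normalizer (D : Set G), n ∈ piCore (notPi π) (Subgroup.normalizer (D : Set G)) → n ∈ blockKer B₁ := by
  classical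
  letI : Fintype H₀ := Fintype.ofFinite _
  letI : Fintype (Subgroup.normalizer (D : Set G)) := Fintype.ofFinite _
  have hPr := hM.isPrime
  have hDp : IsPGroup p D := isPGroup_of_defect hBD
  have hp' : p ∉ notPi π := not_mem_pi' hM hpπ
  have hDH : D₀ ≤ H₀ := hH₀ ▸ le_sup_left
  have hCH : Subgroup.centralizer (D₀ : Set G) ≤ H₀ := hH₀ ▸ le_sup_right
  have hPX : D₀ ≤ Subgroup.normalizer ((H₀ : Subgroup G) : Set G) := hDH.trans Subgroup.le_normalizer
  have hNC : H₀ ≤ Subgroup.normalizer ((Subgroup.centralizer (D₀ : Set G) : Subgroup G) : Set G) := by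
    rw [hH₀]
    exact sup_le (le_normalizer_centralizer Subgroup.le_normalizer) Subgroup.le_normalizer
  have hfP : PInv D₀ (incl H₀ (fB b)) := pInv_of_cent hDH (isCent_fB b)
  -- a nonzero coefficient
  have hcoef : ∃ c : G, ∃ hc : c ∈ Subgroup.centralizer (D₀ : Set G), blockCoeff b ⟨c, hCH hc⟩ ∉ locI hPr := by
    by_contra hcon
    push Not at hcon
    obtain ⟨θ, hθ⟩ := IsPBlock.nonempty hPr hb.1
    have h1 : om (θ : H₀ → ℂ) (fB b) ∈ locI hPr := om_mem_locI_of_coeff θ.2 (isCent_fB b) (fun h => ?_)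
    · rw [om_fB, if_pos hθ] at h1
      exact one_notMem_locI hPr h1
    · show blockCoeff b h ∈ locI hPr
      by_cases hd : p ∣ orderOf h
      · rw [blockCoeff_singular hM hb.1 hd]
        exact zero_mem _
      · have h2 : (h : G) ∈ Subgroup.centralizer (D₀ : Set G) := by
          have h3 : (h : G) ∈ D₀ ⊔ Subgroup.centralizer (D₀ : Set G) := by
            rw [← hH₀]
            exact h.2
          refine mem_cent_of_regular hD₀ h3 ?_
          rwa [Subgroup.orderOf_coe]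
        exact hcon _ h2
  obtain ⟨c, hc, hne⟩ := hcoef
  obtain ⟨e₀, he₀, hlam₀⟩ := exists_pair_of_coeff hM hD₀ hCH hPX hb hfP hc hne
  have hk0 : KerP (notPi π) ⟨D₀, e₀⟩ := by
    unfold KerP
    intro ξ hξ z hz
    simp only at ξ hξ z hz ⊢
    obtain ⟨θ, hθ⟩ := IsPBlock.nonempty hPr hb.1
    have hk := kern_iff hM hD₀ hCH hPX hb.1 hfP (hlam₀ ξ hξ)
      (L := piL (notPi π) (Subgroup.centralizer (D₀ : Set G))) hθ (hNC.trans (normalizer_le_piL _ _))
      ((le_normalizer_centralizer Subgroup.le_normalizer).trans (normalizer_le_piL _ _)) (not_dvd_piL hM hp' _)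
    have h1 := hk.1 (fun l hl hlL => by
      obtain ⟨c', hc', rfl⟩ := hlL
      exact hkerb c' hc' θ hθ ⟨_, hl⟩ rfl)
    exact h1 z z.2 ((mem_piL z.2).2 hz)
  have hH : HallP (notPi π) ⟨D₀, e₀⟩ := hcompl
  obtain ⟨e, hmax, hlam⟩ := exists_top hM hpπ hB hBD hB₁ hB₁D
  obtain ⟨y, hy⟩ := exists_conj_below hM hmax he₀
  have htop := (kerP_up hM hp' hy (kerP_cp y hk0) (hallP_cp y hH)).1
  have hCX' : Subgroup.centralizer (D : Set G) ≤ Subgroup.normalizer (D : Set G) := Subgroup.centralizer_le_normalizer _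
  have hDN : D ≤ Subgroup.normalizer (D : Set G) := Subgroup.le_normalizer
  have hPX' : D ≤ Subgroup.normalizer ((Subgroup.normalizer (D : Set G) : Subgroup G) : Set G) :=
    hDN.trans Subgroup.le_normalizer
  intro n hn θ hθ
  obtain ⟨ξ, hξ⟩ := IsPBlock.nonempty hPr hmax.1.1.2
  have hk := kern_iff hM hDp hCX' hPX' hB₁.1 (pInv_of_cent hDN (isCent_fB B₁)) (hlam ξ hξ)
    (L := piL (notPi π) (Subgroup.normalizer (D : Set G))) hθ (le_normalizer_piL _ _)
    (hPX'.trans (normalizer_le_piL _ _)) (not_dvd_piL hM hp' _)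
  exact hk.2 (fun l hl hlL => htop ξ hξ ⟨l, hl⟩ (le_piL_of (hCX'.trans (le_normalizer_piL _ _))
    (fun q hq hd => piL_primes hq hd) hl hlL)) n n.2 ((mem_piL n.2).2 hn)

/-- **S4727** -/
theorem s4727 {B : Set (IrrCharacter G)} (hB : IsPBlock M B) {D : Subgroup G} (hBD : IsDefectGroup p M B D)
    {B₁ : Set (IrrCharacter (Subgroup.normalizer (D : Set G)))} (hB₁ : IsInducedBlock M (Subgroup.normalizer (D : Set G)) B₁ B)
    (hB₁D : IsDefectGroup p M B₁ (D.subgroupOf (Subgroup.normalizer (D : Set G))))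
    (hker : ∀ n : Subgroup.normalizer (D : Set G), n ∈ piCore (notPi π) (Subgroup.normalizer (D : Set G)) → n ∈ blockKer B₁)
    {y : G} {k : ℕ} (hy : orderOf y = p ^ k)
    (hC : ∀ x : Subgroup.centralizer ({y} : Set G), (∀ q : ℕ, q.Prime → q ∣ orderOf x → q ∉ π) →
      x ∈ piCore (notPi π) (Subgroup.centralizer ({y} : Set G))) :
    ∀ χ ∈ B, ∀ x : G, x ∈ Subgroup.centralizer ({y} : Set G) → (∀ q : ℕ, q.Prime → q ∣ orderOf x → q ∉ π) →
      (χ : G → ℂ) (y * x) = (χ : G → ℂ) y := by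
  classical
  letI : Fintype (Subgroup.centralizer ({y} : Set G)) := Fintype.ofFinite _
  have hPr := hM.isPrime
  have hDp : IsPGroup p D := isPGroup_of_defect hBD
  have hp' : p ∉ notPi π := not_mem_pi' hM hpπ
  obtain ⟨e, hmax, hlam⟩ := exists_top hM hpπ hB hBD hB₁ hB₁D
  have htop : KerP (notPi π) ⟨D, e⟩ := kerP_top hM hpπ hDp hB₁.1 hker hmax.1.1.2 hlam
  have hzp : IsPGroup p (Subgroup.zpowers y) := by
    rw [IsPGroup.iff_card]
    exact ⟨k, by rw [Nat.card_zpowers, hy]⟩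
  have hbk : ∀ b : Set (IrrCharacter (Subgroup.centralizer ({y} : Set G))),
      IsInducedBlock M (Subgroup.centralizer ({y} : Set G)) b B →
      ∀ ξ ∈ b, ∀ c ∈ piCore (notPi π) (Subgroup.centralizer ({y} : Set G)),
        (ξ : Subgroup.centralizer ({y} : Set G) → ℂ) c = (ξ : Subgroup.centralizer ({y} : Set G) → ℂ) 1 := by
    intro b hb
    have h1 := (isInducedBlock_congr (centralizer_singleton_eq_zpowers y)).1 hb
    have h2 : IsBrauerPairOf p M B (Subgroup.zpowers y) (setT (prT y) b) := (isPair_iff_isInduced hM hzp).2 h1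
    obtain ⟨z, hz⟩ := exists_conj_below hM hmax h2
    have hk0 : KerP (notPi π) (cp z ⟨Subgroup.zpowers y, setT (prT y) b⟩) := kerP_down hM hp' hz htop
    have hk1 : KerP (notPi π) ⟨Subgroup.zpowers y, setT (prT y) b⟩ := kerP_of_cp hk0
    have hk2 := ker_setT (prT y).symm hk1
    rwa [setT_symm_setT] at hk2
  intro χ hχ x hx hxπ
  set x' : Subgroup.centralizer ({y} : Set G) := ⟨x, hx⟩ with hx'
  have hreg : ¬ p ∣ orderOf x' := by
    intro hd
    rw [hx', Subgroup.orderOf_mk] at hd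
    exact hxπ p hp.out hd hpπ
  have hcl : IsClassFunction (Subgroup.centralizer ({y} : Set G))
      (fun c : Subgroup.centralizer ({y} : Set G) => (χ : G → ℂ) (y * (c : G))) := by
    intro g h
    have h1 : (h : G) * y = y * (h : G) := Subgroup.mem_centralizer_singleton_iff.1 h.2
    have h2 : y * (((h * g * h⁻¹ : Subgroup.centralizer ({y} : Set G)) : G)) = (h : G) * (y * (g : G)) * (h : G)⁻¹ := by
      push_cast
      rw [← mul_assoc, ← mul_assoc, ← mul_assoc, h1]
    show (χ : G → ℂ) _ = (χ : G → ℂ) _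
    rw [h2]
    exact χ.2.isClassFunction _ _
  have h1 := sum_proj_blocks hPr hcl x'
  have h2 := sum_proj_blocks hPr hcl (1 : Subgroup.centralizer ({y} : Set G))
  have h3 : (χ : G → ℂ) (y * x) = (χ : G → ℂ) y := by
    have h4 : (χ : G → ℂ) (y * x) = (χ : G → ℂ) (y * (x' : G)) := rfl
    have h5 : (χ : G → ℂ) y = (χ : G → ℂ) (y * ((1 : Subgroup.centralizer ({y} : Set G)) : G)) := by simp
    rw [h4, h5, ← h1, ← h2]
    refine Finset.sum_congr rfl fun b hb => ?_
    have hbb := mem_blockSet.1 hb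
    by_cases hi : IsInducedBlock M (Subgroup.centralizer ({y} : Set G)) b B
    · rw [proj_apply, proj_apply]
      refine Finset.sum_congr rfl fun θ _ => ?_
      by_cases hθ : θ ∈ b
      · rw [if_pos hθ, if_pos hθ, hbk b hi θ hθ x' (hC x' fun q hq hd => ?_)]
        rw [hx', Subgroup.orderOf_mk] at hd
        exact hxπ q hq hd
      · rw [if_neg hθ, if_neg hθ]
    · rw [second_main hM hy hB hχ hbb hi x' hreg, second_main hM hy hB hχ hbb hi 1 (by
        rw [orderOf_one]
        exact fun h => hp.out.one_lt.ne' (Nat.dvd_one.1 h))]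
  exact h3

end Main

end CfsgLib.Block
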