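import Cfsg.Agent.Lib.Block.V4
import Cfsg.Agent.Lib.Block.Infl2
import Cfsg.Agent.Lib.Block.Rank
import Cfsg.Agent.Lib.Block.Col
import Cfsg.Agent.Lib.Block.Second
import Cfsg.Agent.Lib.Trans.Basic
import Cfsg.Agent.Lib.Block.Graded

/-! # The block rank modulo a normal `p`-subgroup `Q` with `G = Q C(Q)` -/

set_option autoImplicit false
set_option linter.unusedSectionVars false

namespace CfsgLib.Block

open Cfsg
open scoped ComplexConjugate

universe u

section RankQ

variable {G : Type u} [Group G] [Fintype G] {p : ℕ} [hp : Fact p.Prime] {M : Ideal AlgInt}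

attribute [local instance] quotFT

theorem card_rank_eq' (hM : IsPModular p M) {B : Set (IrrCharacter G)} (hB : IsPBlock M B) [DecidablePred (· ∈ B)]
    [DecidablePred fun x : G => p ∣ orderOf x] :
    (Nat.card G : ℂ) * (blockRank p B : ℂ) =
      ∑ x : G, if p ∣ orderOf x then 0 else ∑ χ : IrrCharacter G, if χ ∈ B then (χ : G → ℂ) x * conj ((χ : G → ℂ) x) else 0 := by
  classical
  rw [card_mul_blockRank hM hB]
  refine Finset.sum_congr rfl fun x _ => ?_
  rw [finsum_mem_eq_sum_ite]
  by_cases hx : p ∣ orderOf x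
  · rw [if_pos hx]
    refine Finset.sum_eq_zero fun χ _ => ?_
    have : pRegularPart p (χ : G → ℂ) x = 0 := by
      rw [pRegularPart, if_neg]
      exact not_not.2 hx
    rw [this, zero_mul, ite_self]
  · rw [if_neg hx]
    refine Finset.sum_congr rfl fun χ _ => ?_
    have : pRegularPart p (χ : G → ℂ) x = (χ : G → ℂ) x := by
      rw [pRegularPart, if_pos]
      exact hx
    rw [this, χ.2.map_inv]
    congr

/-- Averaging over a normal subgroup. -/
theorem sum_mul_avg (Q : Subgroup G) [Q.Normal] [Fintype Q] (χ : IrrCharacter G) (x : G) :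
    ∑ q : Q, (χ : G → ℂ) ((q : G) * x) = (Nat.card Q : ℂ) * (om (χ : G → ℂ) (avgA Q) * (χ : G → ℂ) x) := by
  classical
  have hN0 : (Nat.card Q : ℂ) ≠ 0 := by exact_mod_cast (Nat.card_pos (α := Q)).ne'
  have h1 := hat_mul_of_cent χ.2 (isCent_avgA Q) (MonoidAlgebra.single x 1)
  rw [hat_single, one_mul] at h1
  rw [← h1]
  have h2 : hat (χ : G → ℂ) (avgA Q * MonoidAlgebra.single x 1) =
      (Nat.card Q : ℂ)⁻¹ * ∑ q : Q, (χ : G → ℂ) ((q : G) * x) := by
    rw [hat]
    have h3 : ∀ g : G, (avgA Q * MonoidAlgebra.single x (1 : ℂ) : GA G).coeff g = (avgA Q).coeff (g * x⁻¹) := by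
      intro g
      exact coeff_mul_single' x _ g
    simp only [h3]
    rw [← Equiv.sum_comp (Equiv.mulRight x)]
    simp only [Equiv.coe_mulRight, mul_inv_cancel_right]
    simp only [coeff_avgA]
    rw [Finset.mul_sum]
    have h4 : ∀ g : G, (if g ∈ Q then (Nat.card Q : ℂ)⁻¹ else 0) * (χ : G → ℂ) (g * x) =
        if g ∈ Q then (Nat.card Q : ℂ)⁻¹ * (χ : G → ℂ) (g * x) else 0 := by
      intro g
      split_ifs <;> simp
    simp only [h4]
    rw [← Finset.sum_filter]
    exact (Finset.sum_subtype _ (by simp) _)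
  rw [h2]
  field_simp

theorem rank_quot_of_normal (hM : IsPModular p M) (Q : Subgroup G) [hN : Q.Normal] (hQ : IsPGroup p Q)
    (hsup : Q ⊔ Subgroup.centralizer (Q : Set G) = ⊤) :
    blockRank p (principalBlock M G) = blockRank p (principalBlock M (G ⧸ Q)) := by
  classical
  have hP := hM.isPrime
  haveI hCn : (Subgroup.centralizer (Q : Set G)).Normal := Subgroup.normal_centralizer
  letI : Fintype Q := Fintype.ofFinite Q
  have hC : ∃ k : ℕ, (Subgroup.centralizer (Q : Set G)).index = p ^ k := by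
    obtain ⟨a, ha⟩ := IsPGroup.iff_card.1 hQ
    have h1 : (Subgroup.centralizer (Q : Set G)).index = (Subgroup.centralizer (Q : Set G)).relIndex Q := by
      have h2 := Subgroup.relIndex_sup_right Q (Subgroup.centralizer (Q : Set G))
      rw [hsup, Subgroup.relIndex_top_right] at h2
      exact h2
    have h3 : (Subgroup.centralizer (Q : Set G)).relIndex Q ∣ Nat.card Q := Subgroup.index_dvd_card _
    rw [ha] at h3
    obtain ⟨k, _, hk⟩ := (Nat.dvd_prime_pow hp.out).1 h3
    exact ⟨k, by rw [h1, hk]⟩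
  have hreg : ∀ x : G, ¬ p ∣ orderOf x → x ∈ Subgroup.centralizer (Q : Set G) := by
    intro x hx
    apply CfsgLib.Trans.mem_of_coprime_index
    obtain ⟨k, hk⟩ := hC
    rw [hk]
    exact Nat.Coprime.pow_right _ ((Nat.Prime.coprime_iff_not_dvd hp.out).2 hx).symm
  have hcommQ : ∀ x : G, ¬ p ∣ orderOf x → ∀ q ∈ Q, x * q = q * x := by
    intro x hx q hq
    have := hreg x hx
    rw [Subgroup.mem_centralizer_iff] at this
    exact (this q hq).symm
  have hQord : ∀ q ∈ Q, ∃ k : ℕ, orderOf q = p ^ k := by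
    intro q hq
    obtain ⟨k, hk⟩ := (IsPGroup.iff_orderOf.1 hQ) ⟨q, hq⟩
    exact ⟨k, by rw [← hk, Subgroup.orderOf_mk]⟩
  have hB : IsPBlock M (principalBlock M G) := ⟨oneIrr G, rfl⟩
  have hBb : IsPBlock M (principalBlock M (G ⧸ Q)) := ⟨oneIrr _, rfl⟩
  have e1 := card_rank_eq' hM hB
  have e2 := card_rank_eq' hM hBb
  have hmem2 : ∀ χb ∈ principalBlock M (G ⧸ Q), inflIrr Q χb ∈ principalBlock M G := by
    intro χb hχb
    have h := sameBlock_infl Q hP hχb
    exact h
  have hmem3 : ∀ χb : IrrCharacter (G ⧸ Q), inflIrr Q χb ∈ principalBlock M G → χb ∈ principalBlock M (G ⧸ Q) := by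
    intro χb hχb
    have := (blocks_quot_of_central Q hM hQ hC).1 (oneIrr _) χb
    exact this.2 hχb
  have hQ0 : (Nat.card Q : ℂ) ≠ 0 := by exact_mod_cast (Nat.card_pos (α := Q)).ne'
  -- the key identity for regular elements
  have key : ∀ x : G, ¬ p ∣ orderOf x →
      (∑ χ : IrrCharacter G, if χ ∈ principalBlock M G then (χ : G → ℂ) x * conj ((χ : G → ℂ) x) else 0) =
      (Nat.card Q : ℂ) * ∑ χb : IrrCharacter (G ⧸ Q), if χb ∈ principalBlock M (G ⧸ Q) then
        (χb : G ⧸ Q → ℂ) (x : G ⧸ Q) * conj ((χb : G ⧸ Q → ℂ) (x : G ⧸ Q)) else 0 := by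
    intro x hx
    have horth : ∀ q : Q, q ≠ 1 →
        (∑ χ : IrrCharacter G, if χ ∈ principalBlock M G then (χ : G → ℂ) ((q : G) * x) * conj ((χ : G → ℂ) x) else 0) = 0 := by
      intro q hq
      obtain ⟨k, hk⟩ := hQord q q.2
      exact block_orthogonality hM hB (g := (q : G) * x) (h := x) (x := q) (y := 1)
        ⟨x, rfl, (hcommQ x hx q q.2).symm, ⟨k, hk⟩, hx⟩
        ⟨x, one_mul x, Commute.one_left x, ⟨0, by simp⟩, hx⟩ (by
          intro hc
          apply hq
          exact Subtype.ext (isConj_one_right.1 hc.symm))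
    have h1 : (∑ χ : IrrCharacter G, if χ ∈ principalBlock M G then (χ : G → ℂ) x * conj ((χ : G → ℂ) x) else 0) =
        ∑ q : Q, ∑ χ : IrrCharacter G, if χ ∈ principalBlock M G then (χ : G → ℂ) ((q : G) * x) * conj ((χ : G → ℂ) x) else 0 := by
      rw [Finset.sum_eq_single (1 : Q)]
      · simp
      · intro q _ hq
        exact horth q hq
      · simp
    rw [h1, Finset.sum_comm]
    have h2 : ∀ χ : IrrCharacter G, (∑ q : Q, if χ ∈ principalBlock M G then (χ : G → ℂ) ((q : G) * x) * conj ((χ : G → ℂ) x) else 0) =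
        if χ ∈ inflIrr Q '' principalBlock M (G ⧸ Q) then (Nat.card Q : ℂ) * ((χ : G → ℂ) x * conj ((χ : G → ℂ) x)) else 0 := by
      intro χ
      by_cases hχ : χ ∈ principalBlock M G
      · simp only [if_pos hχ]
        rw [← Finset.sum_mul, sum_mul_avg Q χ x]
        by_cases hk : ∀ n ∈ Q, (χ : G → ℂ) n = (χ : G → ℂ) 1
        · obtain ⟨χb, rfl⟩ := exists_descend Q hk
          rw [if_pos ⟨χb, hmem3 χb hχ, rfl⟩, om_avgA_infl]
          ring
        · have h0 : om (χ : G → ℂ) (avgA Q) = 0 := by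
            by_contra h
            exact hk (ker_of_om_avgA_ne Q χ h)
          rw [if_neg, h0]
          · ring
          · rintro ⟨χb, _, rfl⟩
            apply hk
            intro n hn
            rw [inflIrr_apply, inflIrr_apply, (QuotientGroup.eq_one_iff n).2 hn, QuotientGroup.mk_one]
      · simp only [if_neg hχ, Finset.sum_const_zero]
        rw [if_neg]
        rintro ⟨χb, hb, rfl⟩
        exact hχ (hmem2 χb hb)
    simp only [h2]
    rw [← Finset.sum_filter, ← Finset.sum_filter, Finset.mul_sum]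
    symm
    refine Finset.sum_nbij (inflIrr Q) ?_ ((inflIrr_injective Q).injOn) ?_ ?_
    · intro χb hχb
      simp only [Finset.mem_filter, Finset.mem_univ, true_and] at hχb ⊢
      exact ⟨χb, hχb, rfl⟩
    · intro χ hχ
      simp only [Finset.coe_filter, Finset.mem_univ, true_and, Set.mem_setOf_eq] at hχ
      obtain ⟨χb, hb, rfl⟩ := hχ
      exact ⟨χb, by simpa using hb, rfl⟩
    · intro χb _
      rfl
  -- the regular elements biject
  have hbij : (∑ x : G, if p ∣ orderOf x then (0 : ℂ) else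
        ∑ χb : IrrCharacter (G ⧸ Q), if χb ∈ principalBlock M (G ⧸ Q) then
        (χb : G ⧸ Q → ℂ) (x : G ⧸ Q) * conj ((χb : G ⧸ Q → ℂ) (x : G ⧸ Q)) else 0) =
      ∑ t : G ⧸ Q, if p ∣ orderOf t then (0 : ℂ) else
        ∑ χb : IrrCharacter (G ⧸ Q), if χb ∈ principalBlock M (G ⧸ Q) then
        (χb : G ⧸ Q → ℂ) t * conj ((χb : G ⧸ Q → ℂ) t) else 0 := by
    have hf : ∀ {α : Type u} (s : Finset α) (P : α → Prop) [DecidablePred P] (f : α → ℂ),
        (∑ a ∈ s, if P a then (0 : ℂ) else f a) = ∑ a ∈ s.filter (fun a => ¬ P a), f a := by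
      intro α s P _ f
      rw [Finset.sum_filter]
      refine Finset.sum_congr rfl fun a _ => ?_
      by_cases h : P a <;> simp [h]
    rw [hf, hf]
    refine Finset.sum_nbij (fun x : G => (x : G ⧸ Q)) ?_ ?_ ?_ ?_
    · intro x hx
      simp only [Finset.mem_filter, Finset.mem_univ, true_and] at hx ⊢
      intro h
      exact hx (h.trans (orderOf_map_dvd (QuotientGroup.mk' Q) x))
    · intro x hx y hy hxy
      simp only [Finset.coe_filter, Finset.mem_univ, true_and, Set.mem_setOf_eq] at hx hy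
      have h1 : x⁻¹ * y ∈ Q := QuotientGroup.eq.1 hxy
      obtain ⟨q, hq⟩ : ∃ q, q = x⁻¹ * y := ⟨_, rfl⟩
      rw [← hq] at h1
      have h2 : y = x * q := by rw [hq]; group
      by_contra hne
      have hq1 : q ≠ 1 := by
        rintro rfl
        exact hne (by rw [h2, mul_one])
      apply hy
      obtain ⟨k, hk⟩ := hQord q h1
      have hcm : Commute x q := hcommQ x hx q h1
      have h3 : y ^ orderOf x = q ^ orderOf x := by
        rw [h2, hcm.mul_pow, pow_orderOf_eq_one, one_mul]
      have h4 : orderOf (q ^ orderOf x) = orderOf q := by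
        apply Nat.Coprime.orderOf_pow
        rw [hk]
        exact Nat.Coprime.pow_left _ ((Nat.Prime.coprime_iff_not_dvd hp.out).2 hx)
      have hk0 : k ≠ 0 := by
        rintro rfl
        rw [pow_zero, orderOf_eq_one_iff] at hk
        exact hq1 hk
      have h5 : p ∣ orderOf q := by
        rw [hk]
        exact dvd_pow_self p hk0
      have h6 : orderOf (y ^ orderOf x) ∣ orderOf y := orderOf_pow_dvd _
      rw [h3, h4] at h6
      exact h5.trans h6
    · intro t ht
      simp only [Finset.coe_filter, Finset.mem_univ, true_and, Set.mem_setOf_eq] at ht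
      obtain ⟨g, hg, hg2⟩ := exists_regular_lift Q hQ ht
      exact ⟨g, by simpa using hg2, hg⟩
    · intro x _
      rfl
  have hcard : (Nat.card G : ℂ) = (Nat.card Q : ℂ) * (Nat.card (G ⧸ Q) : ℂ) := by
    rw [Subgroup.card_eq_card_quotient_mul_card_subgroup Q]
    push_cast
    ring
  have hfin : (Nat.card G : ℂ) ≠ 0 := by
    exact_mod_cast (Nat.card_pos (α := G)).ne'
  have h9 : (Nat.card G : ℂ) * (blockRank p (principalBlock M G) : ℂ) =
      (Nat.card G : ℂ) * (blockRank p (principalBlock M (G ⧸ Q)) : ℂ) := by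
    rw [e1]
    have h10 : (∑ x : G, if p ∣ orderOf x then (0 : ℂ) else
        ∑ χ : IrrCharacter G, if χ ∈ principalBlock M G then (χ : G → ℂ) x * conj ((χ : G → ℂ) x) else 0) =
        ∑ x : G, (Nat.card Q : ℂ) * (if p ∣ orderOf x then (0 : ℂ) else
        ∑ χb : IrrCharacter (G ⧸ Q), if χb ∈ principalBlock M (G ⧸ Q) then
        (χb : G ⧸ Q → ℂ) (x : G ⧸ Q) * conj ((χb : G ⧸ Q → ℂ) (x : G ⧸ Q)) else 0) := by
      refine Finset.sum_congr rfl fun x _ => ?_
      by_cases hx : p ∣ orderOf x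
      · simp [hx]
      · rw [if_neg hx, if_neg hx, key x hx]
    rw [h10, ← Finset.mul_sum, hbij, hcard, mul_assoc, e2]
  exact_mod_cast mul_left_cancel₀ hfin h9

end RankQ

end CfsgLib.Block
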