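import Cfsg.Agent.S4513
import Cfsg.Agent.Lib.Block.Col
import Cfsg.Agent.Lib.Block.Defic
import Cfsg.Agent.Lib.Block.BrauerFeit

/-! # Blocks with a Klein four defect group: local structure -/

set_option autoImplicit false
set_option linter.unusedSectionVars false
set_option linter.unusedVariables false

namespace CfsgLib.Block

open Cfsg CfsgLib.Char
open scoped ComplexConjugate

universe u

section D1

variable {G : Type u} [Group G] [Fintype G] {M : Ideal AlgInt} (hM : IsPModular 2 M)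
include hM

/-- The structure of `2`-blocks of defect one. -/
theorem defect_one_struct {b : Set (IrrCharacter G)} (hb : IsPBlock M b) (hdef : blockDefect 2 b = 1) :
    Nat.card b = 2 ∧ ∀ χ ∈ b, ∀ ψ ∈ b, ∀ g : G, ¬ 2 ∣ orderOf g → (χ : G → ℂ) g = (ψ : G → ℂ) g := by
  classical
  have hP := hM.isPrime
  obtain ⟨D, hD⟩ := exists_defectGroup hM hb
  have hcard : Nat.card D = 2 := by rw [card_defectGroup hM hb hD, hdef]; rfl
  obtain ⟨x', hx'⟩ : ∃ y : D, y ≠ 1 := by
    haveI : Nontrivial D := by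
      rw [← Finite.one_lt_card_iff_nontrivial, hcard]; norm_num
    exact exists_ne 1
  obtain ⟨x, hxD⟩ := x'
  have hx : orderOf x = 2 := by
    have h1 : orderOf (⟨x, hxD⟩ : D) ∣ 2 := hcard ▸ orderOf_dvd_natCard _
    have h2 : orderOf (⟨x, hxD⟩ : D) = 1 ∨ orderOf (⟨x, hxD⟩ : D) = 2 := (Nat.dvd_prime Nat.prime_two).1 h1
    rcases h2 with h | h
    · exact absurd (orderOf_eq_one_iff.1 h) hx'
    · rwa [Subgroup.orderOf_mk] at h
  have hDeq : Subgroup.zpowers x = D := by
    apply Subgroup.eq_of_le_of_card_ge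
    · rw [Subgroup.zpowers_le]; exact hxD
    · rw [hcard, Nat.card_zpowers, hx]
  have hD1 : IsDefectGroup 2 M b (Subgroup.zpowers x) := by rw [hDeq]; exact hD
  have hk : orderOf x = 2 ^ 1 := by rw [hx]; rfl
  have hzp : IsPGroup 2 (Subgroup.zpowers x) := by
    rw [IsPGroup.iff_card]
    exact ⟨1, by rw [Nat.card_zpowers, hx]; rfl⟩
  have hx2 : x * x = 1 := by
    have := pow_orderOf_eq_one x
    rw [hx, pow_two] at this
    exact this
  have hzmem : ∀ z ∈ Subgroup.zpowers x, z = 1 ∨ z = x := by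
    rintro _ ⟨i, rfl⟩
    rcases Int.even_or_odd' i with ⟨m, rfl | rfl⟩
    · left
      simp only
      rw [zpow_mul, zpow_two, hx2, one_zpow]
    · right
      simp only
      rw [zpow_add, zpow_mul, zpow_two, hx2, one_zpow, one_mul, zpow_one]
  letI F : Fintype (Subgroup.centralizer ({x} : Set G)) := Fintype.ofFinite _
  obtain ⟨b', hb'⟩ := exists_induced_of_le_defect hM hzp (zpowers_le_centralizer_singleton x)
    (centralizer_zpowers_le_singleton x) (centralizer_singleton_le_normalizer_zpowers x) hb hD1 le_rfl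
  obtain ⟨D', hD'⟩ := exists_defectGroup hM hb'.1
  have hD'eq := isDefect_of_induced_of_le hM hzp (zpowers_le_centralizer_singleton x)
    (centralizer_singleton_le_normalizer_zpowers x) hb hb' hD1 hD'
  subst hD'eq
  have hD'mem : ∀ d ∈ (Subgroup.zpowers x).subgroupOf (Subgroup.centralizer ({x} : Set G)),
      ∀ c : Subgroup.centralizer ({x} : Set G), c * d = d * c := by
    intro d hd c
    apply Subtype.ext
    rcases hzmem _ (Subgroup.mem_subgroupOf.1 hd) with h | h
    · show (c : G) * (d : G) = (d : G) * (c : G)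
      rw [h, mul_one, one_mul]
    · show (c : G) * (d : G) = (d : G) * (c : G)
      rw [h]
      exact Subgroup.mem_centralizer_singleton_iff.1 c.2
  have hCD : CD 2 ((Subgroup.zpowers x).subgroupOf (Subgroup.centralizer ({x} : Set G))) := by
    refine ⟨hzp.comap_subtype, ?_⟩
    rw [eq_top_iff]
    intro c _
    refine Subgroup.mem_sup_right ?_
    rw [Subgroup.mem_centralizer_iff]
    intro d hd
    exact (hD'mem d hd c).symm
  obtain ⟨⟨θ, ⟨hθ, hθk⟩, -⟩, -, -⟩ := s0968 hM hCD hb'.1 hD'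
  have hθx : ∀ z : Subgroup.centralizer ({x} : Set G), (z : G) = x →
      (θ : Subgroup.centralizer ({x} : Set G) → ℂ) z = (θ : Subgroup.centralizer ({x} : Set G) → ℂ) 1 :=
    fun z hz => hθk z (Subgroup.mem_subgroupOf.2 (by rw [hz]; exact Subgroup.mem_zpowers x))
  obtain ⟨h1, h2, -⟩ := Cfsg.Agent.S4513.result M hM x hx b hb hD1 b' hb' θ hθ hθx
  exact ⟨h1, h2⟩

end D1

section Trans

variable {C : Type u} [Group C] [Fintype C]

/-- Translating by a central element multiplies inner products by the central sign. -/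
theorem classInner_translate' {x' : C} (hz : ∀ g : C, x' * g = g * x') (hx'2 : x' * x' = 1)
    (g : C → ℂ) (ψ : IrrCharacter C) :
    classInner (fun c => g (x' * c)) (ψ : C → ℂ) =
      ((ψ : C → ℂ) x' / (ψ : C → ℂ) 1) * classInner g (ψ : C → ℂ) ∧
      (((ψ : C → ℂ) x' / (ψ : C → ℂ) 1) = 1 ∨ ((ψ : C → ℂ) x' / (ψ : C → ℂ) 1) = -1) := by
  classical
  set lam : ℂ := (ψ : C → ℂ) x' / (ψ : C → ℂ) 1 with hlam
  have hscal : ∀ r : C, (ψ : C → ℂ) (x' * r) = lam * (ψ : C → ℂ) r := char_mul_central ψ.2 hz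
  have hψ1 : (ψ : C → ℂ) 1 ≠ 0 := ψ.2.map_one_ne_zero
  have hl2 : lam * lam = 1 := by
    have h1 := hscal x'
    rw [hx'2] at h1
    have h2 : lam * (ψ : C → ℂ) x' = lam * (lam * (ψ : C → ℂ) 1) := by
      rw [hlam]
      field_simp
    rw [← h1] at h2
    have h3 : (1 : ℂ) * (ψ : C → ℂ) 1 = lam * lam * (ψ : C → ℂ) 1 := by
      rw [one_mul, mul_assoc]
      exact h2
    exact (mul_right_cancel₀ hψ1 h3).symm
  have hl : lam = 1 ∨ lam = -1 := by
    have : (lam - 1) * (lam + 1) = 0 := by linear_combination hl2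
    rcases mul_eq_zero.1 this with h | h
    · left; linear_combination h
    · right; linear_combination h
  refine ⟨?_, hl⟩
  have hcl : conj lam = lam := by
    rcases hl with h | h <;> simp [h]
  rw [classInner_def, classInner_def, mul_left_comm, Finset.mul_sum (f := fun c : C => g c * conj ((ψ : C → ℂ) c))]
  congr 1
  have e := Equiv.sum_comp (Equiv.mulLeft x') (fun c : C => g c * conj ((ψ : C → ℂ) c))
  rw [← Finset.mul_sum, ← e, Finset.mul_sum]
  refine Finset.sum_congr rfl fun c _ => ?_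
  simp only [Equiv.coe_mulLeft]
  rw [hscal c, map_mul, hcl]
  have : lam * (g (x' * c) * (lam * conj ((ψ : C → ℂ) c))) = (lam * lam) * (g (x' * c) * conj ((ψ : C → ℂ) c)) := by ring
  rw [this, hl2, one_mul]

end Trans

section V

variable {H : Type u} [Group H] [Fintype H] {M : Ideal AlgInt} (hM : IsPModular 2 M)

attribute [local instance] quotFT

include hM

/-- The central sign is trivial exactly on the inflated characters of a block: pointwise facts
about a quotient by a central involution. -/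
theorem central_v4_quot {u : H} (hu : ∀ g, u * g = g * u) (hu2 : orderOf u = 2)
    {b : Set (IrrCharacter H)} (hb : IsPBlock M b) (hdef : blockDefect 2 b = 2) :
    ∃ ζ₁ ∈ b, ∃ ζ₂ ∈ b, ζ₁ ≠ ζ₂ ∧ (ζ₁ : H → ℂ) u = (ζ₁ : H → ℂ) 1 ∧ (ζ₂ : H → ℂ) u = (ζ₂ : H → ℂ) 1 ∧
      (∀ ζ ∈ b, (ζ : H → ℂ) u = (ζ : H → ℂ) 1 → ζ = ζ₁ ∨ ζ = ζ₂) ∧
      (∀ y : H, ¬ 2 ∣ orderOf y → (ζ₁ : H → ℂ) y = (ζ₂ : H → ℂ) y) ∧
      (∀ ψ ∈ b, (charDegree (ψ : H → ℂ)).factorization 2 + 2 = (Nat.card H).factorization 2) := by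
  classical
  have hP := hM.isPrime
  have hu22 : u * u = 1 := by
    have := pow_orderOf_eq_one u
    rw [hu2, pow_two] at this
    exact this
  set N : Subgroup H := Subgroup.zpowers u with hN
  have hcN : ∀ n ∈ N, ∀ g : H, n * g = g * n := by
    rintro _ ⟨i, rfl⟩ g
    exact ((Commute.zpow_left (show Commute u g from hu g) i)).eq
  haveI hNn : N.Normal := ⟨fun n hn g => by
    have : g * n * g⁻¹ = n := by rw [← hcN n hn g]; group
    rwa [this]⟩
  have hNp : IsPGroup 2 N := by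
    rw [IsPGroup.iff_card]
    exact ⟨1, by rw [hN, Nat.card_zpowers, hu2]; rfl⟩
  have hC : ∃ k : ℕ, (Subgroup.centralizer (N : Set H)).index = 2 ^ k := by
    refine ⟨0, ?_⟩
    have : Subgroup.centralizer (N : Set H) = ⊤ := by
      rw [eq_top_iff]
      intro g _
      rw [Subgroup.mem_centralizer_iff]
      intro n hn
      exact hcN n hn g
    rw [this, Subgroup.index_top, pow_zero]
  have hq := blocks_quot_of_central N hM hNp hC
  obtain ⟨χ₀, θ₀, hθ₀, hθ₀e⟩ := hq.2 b hb
  have hθ₀' : θ₀ = inflIrr N χ₀ := Subtype.ext hθ₀e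
  subst hθ₀'
  have hbe := blockOf_eq_of_mem hP hb hθ₀
  set bb : Set (IrrCharacter (H ⧸ N)) := blockOf M (χ₀ : H ⧸ N → ℂ) with hbb
  have hbbB : IsPBlock M bb := ⟨χ₀, rfl⟩
  have hiff : ∀ t : IrrCharacter (H ⧸ N), t ∈ bb ↔ inflIrr N t ∈ b := by
    intro t
    rw [hbe]
    exact hq.1 χ₀ t
  -- degrees
  have hdeg : ∀ t : IrrCharacter (H ⧸ N), charDegree ((inflIrr N t : IrrCharacter H) : H → ℂ) = charDegree (t : H ⧸ N → ℂ) := by
    intro t
    have h1 := coe_charDegree (inflIrr N t).2.isCharacter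
    have h2 := coe_charDegree t.2.isCharacter
    have h3 : ((inflIrr N t : IrrCharacter H) : H → ℂ) 1 = (t : H ⧸ N → ℂ) 1 := rfl
    rw [h3, ← h2] at h1
    exact_mod_cast h1
  have hnu : ∀ ψ ∈ b, (charDegree (ψ : H → ℂ)).factorization 2 + 2 = (Nat.card H).factorization 2 := by
    intro ψ hψ
    have h1 := (height_bound hM hb hψ).2 (by omega)
    rw [hdef] at h1
    have h2 : blockHeight 2 b (ψ : H → ℂ) = 0 := by omega
    have h3 := (blockHeight_eq_zero_iff hψ).1 h2
    have h4 := blockDefect_eq 2 b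
    rw [hdef] at h4
    omega
  have hcardH : (Nat.card H).factorization 2 = (Nat.card (H ⧸ N)).factorization 2 + 1 := by
    have h1 : Nat.card H = Nat.card (H ⧸ N) * Nat.card N := Subgroup.card_eq_card_quotient_mul_card_subgroup N
    have h2 : Nat.card N = 2 := by rw [hN, Nat.card_zpowers, hu2]
    rw [h1, h2, Nat.factorization_mul Nat.card_pos.ne' (by norm_num)]
    simp [Nat.Prime.factorization_self Nat.prime_two]
  have hdefbb : blockDefect 2 bb = 1 := by
    rw [blockDefect_eq]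
    obtain ⟨t, ht, hte⟩ := exists_minNu_eq (p := 2) (IsPBlock.nonempty hP hbbB)
    have h1 := hnu _ ((hiff t).1 ht)
    rw [hdeg] at h1
    omega
  obtain ⟨hc2, hagree⟩ := defect_one_struct hM hbbB hdefbb
  obtain ⟨⟨t₁, ht₁⟩, ⟨t₂, ht₂⟩, hne, hset⟩ := Nat.card_eq_two_iff.1 hc2
  have hmem2 : ∀ t ∈ bb, t = t₁ ∨ t = t₂ := by
    intro t ht
    have h1 : (⟨t, ht⟩ : bb) ∈ ({⟨t₁, ht₁⟩, ⟨t₂, ht₂⟩} : Set bb) := by rw [hset]; trivial
    rcases h1 with h | h
    · left; exact congrArg Subtype.val h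
    · right; exact congrArg Subtype.val (Set.mem_singleton_iff.1 h)
  have huN : (u : H ⧸ N) = 1 := (QuotientGroup.eq_one_iff u).2 (Subgroup.mem_zpowers u)
  refine ⟨inflIrr N t₁, (hiff t₁).1 ht₁, inflIrr N t₂, (hiff t₂).1 ht₂, ?_, ?_, ?_, ?_, ?_, hnu⟩
  · intro h
    apply hne
    exact Subtype.ext (inflIrr_injective N h)
  · rw [inflIrr_apply, huN]; rfl
  · rw [inflIrr_apply, huN]; rfl
  · intro ζ hζ hζu
    have hker : ∀ n ∈ N, (ζ : H → ℂ) n = (ζ : H → ℂ) 1 := by
      rintro _ ⟨i, rfl⟩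
      rcases Int.even_or_odd' i with ⟨m, rfl | rfl⟩
      · simp only
        rw [zpow_mul, zpow_two, hu22, one_zpow]
      · simp only
        rw [zpow_add, zpow_mul, zpow_two, hu22, one_zpow, one_mul, zpow_one]
        exact hζu
    obtain ⟨t, rfl⟩ := exists_descend N hker
    rcases hmem2 t ((hiff t).2 hζ) with rfl | rfl
    · left; rfl
    · right; rfl
  · intro y hy
    have hy' : ¬ 2 ∣ orderOf (y : H ⧸ N) := fun h => hy (h.trans (orderOf_map_dvd (QuotientGroup.mk' N) y))
    exact hagree _ ht₁ _ ht₂ _ hy'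

/-- Inner products of the regular part vanish across blocks. -/
theorem classInner_regPart_zero' {b : Set (IrrCharacter H)} (hb : IsPBlock M b)
    {ψ ζ : IrrCharacter H} (hψ : ψ ∈ b) (hζ : ζ ∉ b) : classInner (regPart 2 (ψ : H → ℂ)) (ζ : H → ℂ) = 0 := by
  classical
  have h1 := classInner_tl_eq_zero hM hb hψ hζ
  have h2 : tl 2 (ψ : H → ℂ) = ((2 ^ (Nat.card H).factorization 2 : ℕ) : ℂ) • regPart 2 (ψ : H → ℂ) := by
    funext x
    by_cases hx : 2 ∣ orderOf x
    · simp [tl_of_singular, hx, regPart_of_singular]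
    · simp [tl_of_regular _ hx, regPart_of_regular _ hx]
  rw [h2, classInner_smul_left] at h1
  refine (mul_eq_zero.1 h1).resolve_left ?_
  exact_mod_cast (pow_pos (by norm_num : 0 < 2) _).ne'

open Classical in
/-- **Lemma V**: blocks of defect two with a central involution. -/
theorem central_v4_struct {u : H} (hu : ∀ g, u * g = g * u) (hu2 : orderOf u = 2)
    {b : Set (IrrCharacter H)} (hb : IsPBlock M b) (hdef : blockDefect 2 b = 2) :
    ∃ (φ : H → ℂ) (n : IrrCharacter H → ℂ) (g : ℕ), g ≠ 0 ∧ φ 1 = g ∧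
      g.factorization 2 + 2 = (Nat.card H).factorization 2 ∧
      (∀ ψ ∈ b, ∃ z : ℤ, n ψ = z) ∧
      (∀ ψ ∈ b, ∀ y : H, ¬ 2 ∣ orderOf y → (ψ : H → ℂ) y = n ψ * φ y) ∧
      (∑ ψ : IrrCharacter H, if ψ ∈ b then n ψ * conj (n ψ) else 0) = 4 ∧ blockRank 2 b = 1 := by
  classical
  have hP := hM.isPrime
  obtain ⟨ζ₁, hζ₁, ζ₂, hζ₂, hne, hζ₁u, hζ₂u, hcases, hag, hnu⟩ := central_v4_quot hM hu hu2 hb hdef
  have hu22 : u * u = 1 := by
    have := pow_orderOf_eq_one u
    rw [hu2, pow_two] at this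
    exact this
  set g : ℕ := charDegree (ζ₁ : H → ℂ) with hgdef
  have hg : (g : ℂ) = (ζ₁ : H → ℂ) 1 := coe_charDegree ζ₁.2.isCharacter
  have hg0 : (g : ℂ) ≠ 0 := hg ▸ ζ₁.2.map_one_ne_zero
  have hg0' : g ≠ 0 := fun h => hg0 (by rw [h]; simp)
  set n : IrrCharacter H → ℂ := fun ψ => (ψ : H → ℂ) 1 / g with hn
  have hsing : ∀ y : H, ¬ 2 ∣ orderOf y → 2 ∣ orderOf (u * y) := by
    intro y hy
    have hco : Nat.Coprime (orderOf u) (orderOf y) := by
      rw [hu2]; exact (Nat.Prime.coprime_iff_not_dvd Nat.prime_two).2 hy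
    rw [(show Commute u y from hu y).orderOf_mul_eq_mul_orderOf_of_coprime hco, hu2]
    exact dvd_mul_right _ _
  have hone : ¬ 2 ∣ orderOf (1 : H) := by simp
  have hFdec : ∀ ψ ∈ b, ∀ y : H, ¬ 2 ∣ orderOf y → (ψ : H → ℂ) y =
      (2 * classInner (regPart 2 (ψ : H → ℂ)) (ζ₁ : H → ℂ) + 2 * classInner (regPart 2 (ψ : H → ℂ)) (ζ₂ : H → ℂ)) * (ζ₁ : H → ℂ) y := by
    intro ψ hψ y hy
    set v := regPart 2 (ψ : H → ℂ) with hv
    set F : H → ℂ := fun c => v c + v (u * c) with hF
    have hvc : IsClassFunction H v := isClass_regPart ψ.2.isClassFunction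
    have hFc : IsClassFunction H F := by
      intro a x
      simp only [hF]
      rw [hvc a x]
      have : u * (x * a * x⁻¹) = x * (u * a) * x⁻¹ := by
        rw [← mul_assoc, ← mul_assoc, hu x]
        group
      rw [this, hvc]
    have h1 := classFunction_apply hFc y
    have h2 : F y = (ψ : H → ℂ) y := by
      simp only [hF]
      rw [hv, regPart_of_regular _ hy, regPart_of_singular _ (hsing y hy), add_zero]
    have h3 : ∀ ζ : IrrCharacter H, classInner F (ζ : H → ℂ) = (1 + (ζ : H → ℂ) u / (ζ : H → ℂ) 1) * classInner v (ζ : H → ℂ) := by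
      intro ζ
      have h := (classInner_translate' hu hu22 v ζ).1
      have e : F = v + fun c => v (u * c) := rfl
      rw [e, classInner_add_left, h]
      ring
    have h4 : ∀ ζ : IrrCharacter H, ζ ≠ ζ₁ ∧ ζ ≠ ζ₂ → classInner F (ζ : H → ℂ) = 0 := by
      rintro ζ ⟨hz1, hz2⟩
      rw [h3]
      by_cases hζb : ζ ∈ b
      · rcases (classInner_translate' hu hu22 v ζ).2 with h | h
        · exfalso
          have h5 : (ζ : H → ℂ) u = (ζ : H → ℂ) 1 := by
            have h6 : (ζ : H → ℂ) 1 ≠ 0 := ζ.2.map_one_ne_zero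
            field_simp at h
            exact h
          rcases hcases ζ hζb h5 with h' | h'
          · exact hz1 h'
          · exact hz2 h'
        · rw [h]; ring
      · rw [hv, classInner_regPart_zero' hM hb hψ hζb, mul_zero]
    have h5 : ∀ ζ : IrrCharacter H, (ζ : H → ℂ) u = (ζ : H → ℂ) 1 → classInner F (ζ : H → ℂ) = 2 * classInner v (ζ : H → ℂ) := by
      intro ζ hζ
      rw [h3, hζ, div_self ζ.2.map_one_ne_zero]
      ring
    rw [← h2, h1, Finset.sum_eq_add ζ₁ ζ₂ hne (fun c _ hc => by rw [h4 c hc, zero_mul])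
      (fun h => absurd (Finset.mem_univ _) h) (fun h => absurd (Finset.mem_univ _) h), h5 ζ₁ hζ₁u, h5 ζ₂ hζ₂u,
      ← hag y hy]
    ring
  have hreg : ∀ ψ ∈ b, ∀ y : H, ¬ 2 ∣ orderOf y → (ψ : H → ℂ) y = n ψ * (ζ₁ : H → ℂ) y := by
    intro ψ hψ y hy
    have h1 := hFdec ψ hψ 1 hone
    rw [← hg] at h1
    have h2 := hFdec ψ hψ y hy
    have h3 : n ψ = 2 * classInner (regPart 2 (ψ : H → ℂ)) (ζ₁ : H → ℂ) + 2 * classInner (regPart 2 (ψ : H → ℂ)) (ζ₂ : H → ℂ) := by
      simp only [hn]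
      rw [h1]
      field_simp
    rw [h3]
    exact h2
  have hregfun : ∀ ψ ∈ b, regPart 2 (ψ : H → ℂ) = n ψ • regPart 2 (ζ₁ : H → ℂ) := by
    intro ψ hψ
    funext x
    by_cases hx : 2 ∣ orderOf x
    · simp [regPart_of_singular, hx]
    · simp only [Pi.smul_apply, smul_eq_mul]
      rw [regPart_of_regular _ hx, regPart_of_regular _ hx, hreg ψ hψ x hx]
  set c₀ : ℂ := classInner (regPart 2 (ζ₁ : H → ℂ)) (ζ₁ : H → ℂ) with hc₀
  have hc₂ : classInner (regPart 2 (ζ₁ : H → ℂ)) (ζ₂ : H → ℂ) = c₀ := by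
    rw [hc₀, classInner_def, classInner_def]
    congr 1
    refine Finset.sum_congr rfl fun x _ => ?_
    by_cases hx : 2 ∣ orderOf x
    · simp [regPart_of_singular, hx]
    · rw [hag x hx]
  have hn1 : n ζ₁ = 1 := by
    simp only [hn]
    rw [← hg]
    exact div_self hg0
  have hc₀v : c₀ = 1 / 4 := by
    have h1 := hFdec ζ₁ hζ₁ 1 hone
    rw [hc₂, ← hc₀] at h1
    have h2 : (ζ₁ : H → ℂ) 1 ≠ 0 := ζ₁.2.map_one_ne_zero
    have h3 : (1 : ℂ) = 2 * c₀ + 2 * c₀ := by
      apply mul_right_cancel₀ h2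
      rw [one_mul]
      exact h1
    linear_combination (-1 / 4 : ℂ) * h3
  have hintn : ∀ ψ ∈ b, ∃ z : ℤ, n ψ = z := by
    intro ψ hψ
    have h1 := isGen_tl_div hM ψ
    have h2 := hnu ψ hψ
    have h3 : (Nat.card H).factorization 2 - (charDegree (ψ : H → ℂ)).factorization 2 = 2 := by omega
    rw [h3] at h1
    obtain ⟨z, hz⟩ := h1.classInner_int ζ₁.2.isCharacter.isGeneralized
    refine ⟨z, ?_⟩
    rw [← hz]
    have h4 : (fun x : H => if 2 ∣ orderOf x then (0 : ℂ) else ((2 ^ 2 : ℕ) : ℂ) * (ψ : H → ℂ) x) = (4 : ℂ) • regPart 2 (ψ : H → ℂ) := by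
      funext x
      by_cases hx : 2 ∣ orderOf x
      · simp [regPart_of_singular, hx]
      · simp only [Pi.smul_apply, smul_eq_mul, if_neg hx]
        rw [regPart_of_regular _ hx]
        norm_num
    rw [h4, classInner_smul_left, hregfun ψ hψ, classInner_smul_left, ← hc₀, hc₀v]
    ring
  have hrealn : ∀ ψ, conj (n ψ) = n ψ := by
    intro ψ
    simp only [hn]
    rw [map_div₀, map_natCast, ← coe_charDegree ψ.2.isCharacter, map_natCast]
  have hsum : (∑ ψ : IrrCharacter H, if ψ ∈ b then n ψ * conj (n ψ) else 0) = 4 := by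
    have h1 := congrFun (proj_regPart_self hM hb hζ₁) 1
    rw [proj_apply, regPart_of_regular _ hone, ← hg] at h1
    have h2 : ∀ θ : IrrCharacter H, (if θ ∈ b then classInner (regPart 2 (ζ₁ : H → ℂ)) (θ : H → ℂ) * (θ : H → ℂ) 1 else 0) =
        (1 / 4 * (g : ℂ)) * (if θ ∈ b then n θ * conj (n θ) else 0) := by
      intro θ
      by_cases hθ : θ ∈ b
      · rw [if_pos hθ, if_pos hθ]
        have h3 : classInner (regPart 2 (ζ₁ : H → ℂ)) (θ : H → ℂ) = conj (n θ) * c₀ := by
          have e : ∑ x : H, regPart 2 (ζ₁ : H → ℂ) x * conj ((θ : H → ℂ) x) =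
              conj (n θ) * ∑ x : H, regPart 2 (ζ₁ : H → ℂ) x * conj ((ζ₁ : H → ℂ) x) := by
            rw [Finset.mul_sum]
            refine Finset.sum_congr rfl fun x _ => ?_
            by_cases hx : 2 ∣ orderOf x
            · simp [regPart_of_singular, hx]
            · rw [hreg θ hθ x hx, map_mul]
              ring
          rw [hc₀, classInner_def, classInner_def, e]
          ring
        have h4 : (θ : H → ℂ) 1 = n θ * g := by
          simp only [hn]
          field_simp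
        rw [h3, h4, hc₀v]
        ring
      · rw [if_neg hθ, if_neg hθ, mul_zero]
    simp only [h2] at h1
    rw [← Finset.mul_sum] at h1
    have h3 : (1 / 4 * (g : ℂ)) * (∑ ψ : IrrCharacter H, if ψ ∈ b then n ψ * conj (n ψ) else 0) = (1 / 4 * (g : ℂ)) * 4 := by
      rw [h1]; ring
    exact mul_left_cancel₀ (by simpa using hg0) h3
  have hrank : blockRank 2 b = 1 := by
    have h1 : (fun χ : IrrCharacter H => pRegularPart 2 (χ : H → ℂ)) = fun χ : IrrCharacter H => regPart 2 (χ : H → ℂ) := by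
      funext χ
      exact pRegularPart_eq_regPart 2 _
    rw [blockRank, h1]
    have h2 : Submodule.span ℂ ((fun χ : IrrCharacter H => regPart 2 (χ : H → ℂ)) '' b) = Submodule.span ℂ {regPart 2 (ζ₁ : H → ℂ)} := by
      apply le_antisymm
      · rw [Submodule.span_le]
        rintro _ ⟨ψ, hψ, rfl⟩
        simp only
        rw [hregfun ψ hψ]
        exact Submodule.smul_mem _ _ (Submodule.mem_span_singleton_self _)
      · rw [Submodule.span_le, Set.singleton_subset_iff]
        exact Submodule.subset_span ⟨ζ₁, hζ₁, rfl⟩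
    rw [h2]
    apply finrank_span_singleton
    intro h0
    have h3 := congrFun h0 1
    rw [regPart_of_regular _ hone] at h3
    exact ζ₁.2.map_one_ne_zero h3
  exact ⟨(ζ₁ : H → ℂ), n, g, hg0', hg.symm, hnu ζ₁ hζ₁, hintn, hreg, hsum, hrank⟩

end V

end CfsgLib.Block
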