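import Cfsg.Agent.Lib.Block.V4B1

/-! # Blocks with a Klein four defect group: the number of characters -/

set_option autoImplicit false
set_option linter.unusedSectionVars false
set_option linter.unusedVariables false

namespace CfsgLib.Block

open Cfsg CfsgLib.Char
open scoped ComplexConjugate

universe u

section Col4

variable {G : Type u} [Group G] [Fintype G] {M : Ideal AlgInt} (hM : IsPModular 2 M)

theorem isCent_single_central {z : G} (hz : ∀ g, z * g = g * z) : IsCent (MonoidAlgebra.single z (1 : ℂ) : GA G) := by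
  classical
  intro g x
  show (MonoidAlgebra.single z (1 : ℂ) : GA G).coeff (x * g * x⁻¹) = (MonoidAlgebra.single z (1 : ℂ) : GA G).coeff g
  rw [coeff_single', coeff_single']
  have h1 : z = x * g * x⁻¹ ↔ z = g := by
    constructor
    · intro h
      symm
      calc g = x⁻¹ * (x * g * x⁻¹) * x := by group
        _ = x⁻¹ * z * x := by rw [h]
        _ = z * x⁻¹ * x := by rw [hz x⁻¹]
        _ = z := by group
    · intro h
      rw [← h]
      calc z = z * x * x⁻¹ := by group
        _ = x * z * x⁻¹ := by rw [hz x]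
  simp only [h1]

include hM

theorem ratio_sub_one_mem {A D : ℕ} (hA : A ≠ 0) (hD : D ≠ 0) (h : A.factorization 2 = D.factorization 2) :
    (A : ℂ) / D - 1 ∈ locI hM.isPrime := by
  have hP := hM.isPrime
  obtain ⟨A', hA1, hA2⟩ : ∃ A', 2 ^ D.factorization 2 * A' = A ∧ ¬ 2 ∣ A' :=
    ⟨A / 2 ^ A.factorization 2, by rw [← h]; exact Nat.ordProj_mul_ordCompl_eq_self A 2, Nat.not_dvd_ordCompl Nat.prime_two hA⟩
  obtain ⟨D', hD1, hD2⟩ : ∃ D', 2 ^ D.factorization 2 * D' = D ∧ ¬ 2 ∣ D' :=
    ⟨D / 2 ^ D.factorization 2, Nat.ordProj_mul_ordCompl_eq_self D 2, Nat.not_dvd_ordCompl Nat.prime_two hD⟩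
  set v := 2 ^ D.factorization 2 with hv
  have hvne : (v : ℂ) ≠ 0 := by
    rw [hv]; push_cast; exact pow_ne_zero _ two_ne_zero
  have e1 : (A : ℂ) = v * A' := by
    rw [← hA1]
    push_cast
    ring
  have e2 : (D : ℂ) = v * D' := by
    rw [← hD1]
    push_cast
    ring
  have hD'ne : (D' : ℂ) ≠ 0 := natCast_ne_zero_of_not_dvd hM hD2
  have hodd : (2 : ℤ) ∣ (A' : ℤ) - D' := by omega
  have e3 : (A : ℂ) / D - 1 = (D' : ℂ)⁻¹ * (((A' : ℤ) - D' : ℤ) : ℂ) := by
    rw [e1, e2]
    push_cast
    field_simp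
  rw [e3]
  exact locI_mul_left hP (natCast_inv_mem hM hD2) ((intCast_mem_locI_iff hM _).2 (by exact_mod_cast hodd))

/-- The count `k(B) = 4` from a block of a centralizer of defect two. -/
theorem v4_card_eq_four {u : G} (hu2 : orderOf u = 2) {B : Set (IrrCharacter G)} (hB : IsPBlock M B)
    (hdefB : blockDefect 2 B = 2) [Fintype (Subgroup.centralizer ({u} : Set G))]
    {b : Set (IrrCharacter (Subgroup.centralizer ({u} : Set G)))}
    (hind : IsInducedBlock M (Subgroup.centralizer ({u} : Set G)) b B) (hdefb : blockDefect 2 b = 2) :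
    Nat.card B = 4 := by
  classical
  have hP := hM.isPrime
  have huu : u * u = 1 := by
    have := pow_orderOf_eq_one u
    rw [hu2, pow_two] at this
    exact this
  have hk : orderOf u = 2 ^ 1 := by rw [hu2]; rfl
  have huC : u ∈ Subgroup.centralizer ({u} : Set G) := Subgroup.mem_centralizer_singleton_iff.2 rfl
  set u' : Subgroup.centralizer ({u} : Set G) := ⟨u, huC⟩ with hu'
  have hz : ∀ g, u' * g = g * u' := fun g => Subtype.ext (Subgroup.mem_centralizer_singleton_iff.1 g.2).symm
  have ho : orderOf u' = 2 := by rw [hu', Subgroup.orderOf_mk]; exact hu2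
  have hu'u' : u' * u' = 1 := Subtype.ext huu
  obtain ⟨φ, n, g, hg0, hφ1, hgν, hnint, hn, hsum, hrank⟩ := central_v4_struct hM hz ho hind.1 hdefb
  have hg0C : (g : ℂ) ≠ 0 := by exact_mod_cast hg0
  have hφ0 : φ 1 ≠ 0 := by rw [hφ1]; exact hg0C
  have hnorm := col_norm hM hk hind.1 hφ0 hn
  choose! m hm using hnint
  have hint : ∀ χ : IrrCharacter G, ∃ z : ℤ, colF b n χ = z := by
    intro χ
    choose z hz' using classInner_secF_int huu χ
    refine ⟨∑ ψ, if ψ ∈ b then z ψ * m ψ else 0, ?_⟩
    rw [colF]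
    push_cast
    refine Finset.sum_congr rfl fun ψ _ => ?_
    split_ifs with h
    · rw [hz', hm ψ h]
    · simp
  choose d hd using hint
  have hsumd : ∑ χ : IrrCharacter G, (d χ) ^ 2 = 4 := by
    rw [hsum] at hnorm
    have h2 : ∀ χ : IrrCharacter G, colF b n χ * conj (colF b n χ) = (((d χ) ^ 2 : ℤ) : ℂ) := by
      intro χ
      rw [hd, map_intCast]
      push_cast
      ring
    simp only [h2] at hnorm
    exact_mod_cast hnorm
  have hzero : ∀ χ : IrrCharacter G, χ ∉ B → d χ = 0 := by
    intro χ hχ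
    have h1 := col_eq_zero_of_not_mem hM hk hind.1 hφ0 hn hind hχ
    rw [hd] at h1
    exact_mod_cast h1
  -- orthogonality
  have horth : ∑ χ : IrrCharacter G, d χ * (charDegree (χ : G → ℂ) : ℤ) = 0 := by
    have h1p : ¬ 2 ∣ orderOf (1 : Subgroup.centralizer ({u} : Set G)) := by simp
    have h1 : ∀ χ : IrrCharacter G, ((d χ : ℂ)) * φ 1 * conj ((χ : G → ℂ) 1) =
        (Nat.card (Subgroup.centralizer ({u} : Set G)) : ℂ)⁻¹ * ∑ c : Subgroup.centralizer ({u} : Set G),
          ((χ : G → ℂ) (u * (c : G)) * conj ((χ : G → ℂ) 1)) * conj (∑ θ : IrrCharacter (Subgroup.centralizer ({u} : Set G)),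
            if θ ∈ b then (θ : Subgroup.centralizer ({u} : Set G) → ℂ) c * conj ((θ : Subgroup.centralizer ({u} : Set G) → ℂ) 1) else 0) := by
      intro χ
      rw [← hd, ← proj_secF_eq hn χ 1 h1p, proj_apply', mul_assoc, Finset.sum_mul]
      congr 1
      refine Finset.sum_congr rfl fun c _ => ?_
      simp only [secF]
      ring
    have h2 : ∑ χ : IrrCharacter G, ((d χ : ℂ)) * φ 1 * conj ((χ : G → ℂ) 1) = 0 := by
      simp only [h1]
      rw [← Finset.mul_sum, Finset.sum_comm]
      refine mul_eq_zero_of_right _ (Finset.sum_eq_zero fun c _ => ?_)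
      rw [← Finset.sum_mul, column_orthogonality]
      by_cases hc : IsConj (u * (c : G)) 1
      · have h3 : u * (c : G) = 1 := isConj_one_right.1 hc.symm
        have h4 : c = u' := by
          apply Subtype.ext
          show (c : G) = u
          calc (c : G) = u * (u * c) := by rw [← mul_assoc, huu, one_mul]
            _ = u := by rw [h3, mul_one]
        have h5 : 2 ∣ orderOf c := by rw [h4, ho]
        rw [proj_kernel_eq_zero hM hind.1 h5 h1p]
        simp
      · rw [if_neg hc, zero_mul]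
    have h3 : ∀ χ : IrrCharacter G, ((d χ : ℂ)) * φ 1 * conj ((χ : G → ℂ) 1) = φ 1 * ((d χ * (charDegree (χ : G → ℂ) : ℤ) : ℤ) : ℂ) := by
      intro χ
      rw [← coe_charDegree χ.2.isCharacter, map_natCast]
      push_cast
      ring
    simp only [h3] at h2
    rw [← Finset.mul_sum] at h2
    have h4 := (mul_eq_zero.1 h2).resolve_left hφ0
    exact_mod_cast h4
  -- the central element and parity
  set a : GA (Subgroup.centralizer ({u} : Set G)) := MonoidAlgebra.single u' (1 : ℂ) * fB b with ha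
  have haC : IsCent a := (isCent_single_central hz).mul (isCent_fB b)
  have has : SVal hP a := SVal.mul hP (sval_single hP (one_mem _)) (sval_fB hM hind.1)
  have hhat : ∀ χ : IrrCharacter G, hat (fun c : Subgroup.centralizer ({u} : Set G) => (χ : G → ℂ) c) a = g * (d χ : ℂ) := by
    intro χ
    rw [hat, ← hd, colF]
    simp only [ha, coeff_single_mul, coeff_fB]
    have e1 := Equiv.sum_comp (Equiv.mulLeft u') (fun c : Subgroup.centralizer ({u} : Set G) => blockCoeff b (u'⁻¹ * c) * (χ : G → ℂ) c)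
    rw [← e1, Finset.mul_sum]
    have e2 : ∀ c : Subgroup.centralizer ({u} : Set G), blockCoeff b (u'⁻¹ * (Equiv.mulLeft u' c)) * (χ : G → ℂ) ((Equiv.mulLeft u' c : Subgroup.centralizer ({u} : Set G)) : G) =
        ∑ θ : IrrCharacter (Subgroup.centralizer ({u} : Set G)), if θ ∈ b then (θ : Subgroup.centralizer ({u} : Set G) → ℂ) 1 *
          ((Nat.card (Subgroup.centralizer ({u} : Set G)) : ℂ)⁻¹ * (secF u (χ : G → ℂ) c * conj ((θ : Subgroup.centralizer ({u} : Set G) → ℂ) c))) else 0 := by
      intro c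
      simp only [Equiv.coe_mulLeft]
      rw [inv_mul_cancel_left, blockCoeff_eq, Finset.sum_mul]
      refine Finset.sum_congr rfl fun θ _ => ?_
      split_ifs with hθ
      · simp only [coeff_eChi, secF]
        show _ * (χ : G → ℂ) (u * (c : G)) = _
        rw [div_eq_mul_inv]
        ring
      · simp
    simp only [e2]
    rw [Finset.sum_comm]
    refine Finset.sum_congr rfl fun θ _ => ?_
    split_ifs with hθ
    · have e3 : (θ : Subgroup.centralizer ({u} : Set G) → ℂ) 1 = n θ * g := by
        rw [hn θ hθ 1 (by simp), hφ1]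
      rw [← Finset.mul_sum, ← Finset.mul_sum, e3, classInner_def]
      ring
    · simp
  set w : GA G := trA (Subgroup.centralizer ({u} : Set G)) (incl (Subgroup.centralizer ({u} : Set G)) a) with hw
  have hwC : IsCent w := isCent_trA _ _
  have hws : SVal hP w := sval_trA hP (pInv_incl_of_cent haC) (sval_incl _ hP has)
  set A : ℕ := (Subgroup.centralizer ({u} : Set G)).index * g with hA
  have hcardGC : (Nat.card G : ℂ) / (Nat.card (Subgroup.centralizer ({u} : Set G)) : ℂ) = ((Subgroup.centralizer ({u} : Set G)).index : ℂ) := by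
    have h1 := (Subgroup.centralizer ({u} : Set G)).card_mul_index
    have h2 : (Nat.card (Subgroup.centralizer ({u} : Set G)) : ℂ) ≠ 0 := card_ne_zero_C _
    rw [div_eq_iff h2, ← h1]
    push_cast
    ring
  have hom : ∀ χ : IrrCharacter G, om (χ : G → ℂ) w = ((A : ℂ) / (charDegree (χ : G → ℂ) : ℂ)) * (d χ : ℂ) := by
    intro χ
    rw [hw, om_trA χ.2.isClassFunction, hat_incl, hhat, hcardGC, coe_charDegree χ.2.isCharacter, hA]
    push_cast
    ring
  have hindex : (Subgroup.centralizer ({u} : Set G)).index ≠ 0 := Subgroup.index_ne_zero_of_finite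
  have hAne : A ≠ 0 := Nat.mul_ne_zero hindex hg0
  have hAν : A.factorization 2 + 2 = (Nat.card G).factorization 2 := by
    have h1 := (Subgroup.centralizer ({u} : Set G)).card_mul_index
    rw [← h1, hA, Nat.factorization_mul Nat.card_pos.ne' hindex, Nat.factorization_mul hindex hg0]
    simp only [Finsupp.add_apply]
    omega
  have hχν : ∀ χ ∈ B, (charDegree (χ : G → ℂ)).factorization 2 + 2 = (Nat.card G).factorization 2 := by
    intro ψ hψ
    have h1 := (height_bound hM hB hψ).2 (by omega)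
    rw [hdefB] at h1
    have h2 : blockHeight 2 B (ψ : G → ℂ) = 0 := by omega
    have h3 := (blockHeight_eq_zero_iff hψ).1 h2
    have h4 := blockDefect_eq 2 B
    rw [hdefB] at h4
    omega
  have hpar : ∀ χ ∈ B, ∀ χ' ∈ B, (2 : ℤ) ∣ d χ - d χ' := by
    intro χ hχ χ' hχ'
    have h1 := om_sub_mem_of_sameBlock hP χ.2 χ'.2 (sameBlock_of_mem hP hB hχ hχ') hwC hws
    rw [hom, hom] at h1
    have hr := ratio_sub_one_mem hM hAne (charDegree_ne_zero χ.2) (by have := hχν χ hχ; omega)
    have hr' := ratio_sub_one_mem hM hAne (charDegree_ne_zero χ'.2) (by have := hχν χ' hχ'; omega)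
    have hdR : ∀ χ : IrrCharacter G, (d χ : ℂ) ∈ locR hP := fun χ => by
      have := locR_of_isIntegral hP (z := (d χ : ℂ)) (isIntegral_algebraMap (R := ℤ) (x := d χ))
      simpa using this
    have e : ((d χ - d χ' : ℤ) : ℂ) = ((A : ℂ) / (charDegree (χ : G → ℂ) : ℂ)) * (d χ : ℂ) - ((A : ℂ) / (charDegree (χ' : G → ℂ) : ℂ)) * (d χ' : ℂ)
        - ((d χ : ℂ) * ((A : ℂ) / (charDegree (χ : G → ℂ) : ℂ) - 1) - (d χ' : ℂ) * ((A : ℂ) / (charDegree (χ' : G → ℂ) : ℂ) - 1)) := by
      push_cast
      ring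
    have h2 : ((d χ - d χ' : ℤ) : ℂ) ∈ locI hP := by
      rw [e]
      exact sub_mem h1 (sub_mem (locI_mul_left hP (hdR χ) hr) (locI_mul_left hP (hdR χ') hr'))
    simpa using (intCast_mem_locI_iff hM _).1 h2
  -- combinatorics
  have hsumB : ∑ χ ∈ Finset.univ.filter (· ∈ B), (d χ) ^ 2 = 4 := by
    rw [← hsumd]
    refine Finset.sum_subset (Finset.subset_univ _) fun χ _ hχ => ?_
    rw [hzero χ (fun h => hχ (by simpa using h))]
    simp
  have hcardB : Nat.card B = (Finset.univ.filter (· ∈ B)).card := Nat.subtype_card _ (by simp)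
  have hex : ∃ χ ∈ B, d χ ≠ 0 := by
    by_contra hcon
    push Not at hcon
    have : ∑ χ ∈ Finset.univ.filter (· ∈ B), (d χ) ^ 2 = 0 :=
      Finset.sum_eq_zero fun χ hχ => by rw [hcon χ (by simpa using hχ)]; simp
    omega
  by_cases heven : ∀ χ ∈ B, (2 : ℤ) ∣ d χ
  · -- exclude the case of a single column entry ±2
    exfalso
    obtain ⟨χ₀, hχ₀, hne⟩ := hex
    have h4 : 4 ≤ (d χ₀) ^ 2 := by
      obtain ⟨c, hc⟩ := heven χ₀ hχ₀
      have hc0 : c ≠ 0 := by
        rintro rfl
        simp at hc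
        exact hne hc
      have : 1 ≤ c ^ 2 := by
        have := Int.one_le_abs hc0
        nlinarith [abs_nonneg c, sq_abs c]
      rw [hc]
      nlinarith
    have hothers : ∀ χ, χ ≠ χ₀ → d χ = 0 := by
      intro χ hχ
      by_contra hc
      have h5 : 0 < (d χ) ^ 2 := by positivity
      have h6 : (d χ₀) ^ 2 + (d χ) ^ 2 ≤ ∑ χ : IrrCharacter G, (d χ) ^ 2 := by
        have := Finset.sum_le_sum_of_subset_of_nonneg (s := {χ₀, χ}) (t := Finset.univ) (f := fun χ => (d χ) ^ 2)
          (Finset.subset_univ _) (fun i _ _ => by positivity)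
        rwa [Finset.sum_pair (Ne.symm hχ)] at this
      omega
    rw [Finset.sum_eq_single χ₀ (fun χ _ hχ => by rw [hothers χ hχ, zero_mul]) (fun h => absurd (Finset.mem_univ _) h)] at horth
    have h7 : (charDegree (χ₀ : G → ℂ) : ℤ) ≠ 0 := by exact_mod_cast charDegree_ne_zero χ₀.2
    exact (mul_ne_zero hne h7) horth
  · push Not at heven
    obtain ⟨χ₀, hχ₀, hodd⟩ := heven
    have hoddall : ∀ χ ∈ B, (d χ) ^ 2 = 1 := by
      intro χ hχ
      have h1 : ¬ (2 : ℤ) ∣ d χ := fun h => hodd (by
        have := hpar χ₀ hχ₀ χ hχ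
        omega)
      have hle : (d χ) ^ 2 ≤ 4 := by
        rw [← hsumB]
        exact Finset.single_le_sum (f := fun χ => (d χ) ^ 2) (fun i _ => by positivity) (by simpa using hχ)
      have h2 : |d χ| < 3 := by
        by_contra hc
        push Not at hc
        nlinarith [sq_abs (d χ)]
      have h3 : |d χ| = 1 := by
        have : |d χ| ≠ 0 := fun h => h1 (by rw [abs_eq_zero.1 h]; exact dvd_zero _)
        have h5 : |d χ| ≠ 2 := fun h => h1 (by
          rcases abs_eq (by norm_num : (0 : ℤ) ≤ 2) |>.1 h with h | h <;> rw [h] <;> norm_num)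
        have := abs_nonneg (d χ)
        omega
      nlinarith [sq_abs (d χ)]
    have h1 : ∑ χ ∈ Finset.univ.filter (· ∈ B), (d χ) ^ 2 = ((Finset.univ.filter (· ∈ B)).card : ℤ) := by
      rw [Finset.sum_congr rfl (fun χ hχ => hoddall χ (by simpa using hχ))]
      simp
    rw [hsumB] at h1
    rw [hcardB]
    omega

end Col4

end CfsgLib.Block
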